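import Mathlib

/-!
The local ring `F[X] / ((X - 1) ^ n)`, the involution `u ↦ u⁻¹` and the map `u ↦ u ^ 2`.
-/

set_option autoImplicit false

namespace Cfsg.Agent.Ore54

open Polynomial Module

variable {F : Type*} [Field F] {n : ℕ}

/-- `F[X] / ((X - 1) ^ n)`. -/
abbrev RR (F : Type*) [Field F] (n : ℕ) := AdjoinRoot ((Polynomial.X - Polynomial.C 1) ^ n : F[X])

/-- The generator. -/
noncomputable def rt (F : Type*) [Field F] (n : ℕ) : RR F n := AdjoinRoot.root _

theorem rt_nil : (rt F n - 1) ^ n = 0 := by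
  have h := AdjoinRoot.mk_self (f := ((Polynomial.X - Polynomial.C 1) ^ n : F[X]))
  rw [map_pow, map_sub, AdjoinRoot.mk_X, AdjoinRoot.mk_C, map_one] at h
  exact h

theorem rt_unit : IsUnit (rt F n) := by
  have h : IsNilpotent (rt F n - 1) := ⟨n, rt_nil⟩
  simpa using h.isUnit_one_add

/-- The generator as a unit. -/
noncomputable def un (F : Type*) [Field F] (n : ℕ) : (RR F n)ˣ := (rt_unit (F := F) (n := n)).unit

@[simp] theorem un_val : (un F n : RR F n) = rt F n := rfl

/-- The map out of `RR F n` given by a unipotent element. -/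
noncomputable def rLift {A : Type*} [Ring A] [Algebra F A] (a : A) (h : (a - 1) ^ n = 0) :
    RR F n →ₐ[F] A :=
  Ideal.Quotient.liftₐ (Ideal.span {((Polynomial.X - Polynomial.C 1) ^ n : F[X])})
    (Polynomial.aeval a) (fun p hp => by
    obtain ⟨q, rfl⟩ := Ideal.mem_span_singleton.1 hp
    simp [h])

@[simp] theorem rLift_rt {A : Type*} [Ring A] [Algebra F A] (a : A) (h : (a - 1) ^ n = 0) :
    rLift (F := F) a h (rt F n) = a := by
  show Polynomial.aeval a Polynomial.X = a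
  simp

theorem rr_hom_ext {A : Type*} [Ring A] [Algebra F A] {f g : RR F n →ₐ[F] A}
    (h : f (rt F n) = g (rt F n)) : f = g := AdjoinRoot.algHom_ext h

theorem inv_nil : (((un F n)⁻¹ : (RR F n)ˣ) - 1 : RR F n) ^ n = 0 := by
  have h : (((un F n)⁻¹ : (RR F n)ˣ) : RR F n) - 1 =
      (rt F n - 1) * (-(((un F n)⁻¹ : (RR F n)ˣ) : RR F n)) := by
    rw [mul_neg, sub_mul, one_mul, ← un_val, Units.mul_inv, neg_sub]
  rw [h, mul_pow, rt_nil, zero_mul]

/-- `u ↦ u⁻¹`. -/
noncomputable def rstar (F : Type*) [Field F] (n : ℕ) : RR F n →ₐ[F] RR F n :=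
  rLift _ inv_nil

@[simp] theorem rstar_rt : rstar F n (rt F n) = ((un F n)⁻¹ : (RR F n)ˣ) := rLift_rt _ _

@[simp] theorem rstar_inv : rstar F n ((un F n)⁻¹ : (RR F n)ˣ) = rt F n := by
  have h : rstar F n ((un F n)⁻¹ : (RR F n)ˣ) * rstar F n (rt F n) = 1 := by
    rw [← map_mul, ← un_val, Units.inv_mul, map_one]
  rw [rstar_rt] at h
  calc rstar F n ((un F n)⁻¹ : (RR F n)ˣ)
      = rstar F n ((un F n)⁻¹ : (RR F n)ˣ) * (((un F n)⁻¹ : (RR F n)ˣ) * rt F n) := by
        rw [← un_val, Units.inv_mul, mul_one]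
    _ = rt F n := by rw [← mul_assoc, h, one_mul]

@[simp] theorem rstar_rstar (r : RR F n) : rstar F n (rstar F n r) = r := by
  have : (rstar F n).comp (rstar F n) = AlgHom.id F (RR F n) := rr_hom_ext (by simp)
  exact AlgHom.congr_fun this r

theorem sq_nil : (rt F n ^ 2 - 1) ^ n = 0 := by
  rw [show rt F n ^ 2 - 1 = (rt F n - 1) * (rt F n + 1) by ring, mul_pow, rt_nil, zero_mul]

/-- `u ↦ u ^ 2`. -/
noncomputable def rsig (F : Type*) [Field F] (n : ℕ) : RR F n →ₐ[F] RR F n := rLift _ sq_nil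

@[simp] theorem rsig_rt : rsig F n (rt F n) = rt F n ^ 2 := rLift_rt _ _

theorem rsig_star (r : RR F n) : rsig F n (rstar F n r) = rstar F n (rsig F n r) := by
  have : (rsig F n).comp (rstar F n) = (rstar F n).comp (rsig F n) := rr_hom_ext (by
    have h : rsig F n ((un F n)⁻¹ : (RR F n)ˣ) * rt F n ^ 2 = 1 := by
      rw [← rsig_rt, ← map_mul, ← un_val, Units.inv_mul, map_one]
    simp only [AlgHom.comp_apply, rstar_rt, rsig_rt, map_pow]
    calc rsig F n ((un F n)⁻¹ : (RR F n)ˣ)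
        = rsig F n ((un F n)⁻¹ : (RR F n)ˣ) * (((un F n)⁻¹ : (RR F n)ˣ) * rt F n) ^ 2 := by
          rw [← un_val, Units.inv_mul, one_pow, mul_one]
      _ = _ := by rw [mul_pow, mul_left_comm, h, mul_one])
  exact AlgHom.congr_fun this r

/-- `u - u⁻¹`. -/
noncomputable def nu (F : Type*) [Field F] (n : ℕ) : RR F n :=
  rt F n - ((un F n)⁻¹ : (RR F n)ˣ)

theorem nu_eq : nu F n = (rt F n - 1) * ((rt F n + 1) * ((un F n)⁻¹ : (RR F n)ˣ)) := by
  have h : rt F n * ((un F n)⁻¹ : (RR F n)ˣ) = 1 := by rw [← un_val, Units.mul_inv]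
  rw [nu]
  linear_combination (-(rt F n)) * h

theorem nu_pow_self : nu F n ^ n = 0 := by rw [nu_eq, mul_pow, rt_nil, zero_mul]

@[simp] theorem rstar_nu : rstar F n (nu F n) = -nu F n := by simp [nu]

theorem rstar_nu_pow (k : ℕ) : rstar F n (nu F n ^ k) = (-1) ^ k * nu F n ^ k := by
  rw [map_pow, rstar_nu, neg_pow]

theorem nu_dvd_rt_sub_one (h2 : (2 : F) ≠ 0) : nu F n ∣ rt F n - 1 := by
  have h : IsUnit (rt F n + 1) := by
    have hu : IsUnit ((2 : RR F n)) := by
      rw [← map_ofNat (algebraMap F (RR F n)) 2]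
      exact (isUnit_iff_ne_zero.2 h2).map _
    obtain ⟨v, hv⟩ := hu
    have : IsNilpotent ((rt F n - 1) * ((v⁻¹ : (RR F n)ˣ) : RR F n)) :=
      ⟨n, by rw [mul_pow, rt_nil, zero_mul]⟩
    have h' := (Units.isUnit v).mul this.isUnit_one_add
    rwa [mul_add, mul_one, mul_left_comm, Units.mul_inv, mul_one, hv,
      show (2 : RR F n) + (rt F n - 1) = rt F n + 1 by ring] at h'
  rw [nu_eq]
  exact (IsUnit.mul_right_dvd (h.mul (Units.isUnit _))).mpr dvd_rfl

/-- Evaluation at `u = 1`. -/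
noncomputable def raug (F : Type*) [Field F] {n : ℕ} (hn : n ≠ 0) : RR F n →ₐ[F] F :=
  rLift 1 (by simp [zero_pow hn])

theorem nu_dvd_sub_aug (h2 : (2 : F) ≠ 0) (hn : n ≠ 0) (r : RR F n) :
    nu F n ∣ r - algebraMap F (RR F n) (raug F hn r) := by
  induction r using AdjoinRoot.induction_on with
  | ih p =>
    have hr : raug F hn (AdjoinRoot.mk _ p) = p.eval 1 := by
      show Polynomial.aeval (1 : F) p = _
      simp
    rw [hr, AdjoinRoot.algebraMap_eq, ← AdjoinRoot.mk_C, ← map_sub]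
    refine (nu_dvd_rt_sub_one h2).trans ?_
    have hd : (Polynomial.X - Polynomial.C 1) ∣ p - Polynomial.C (p.eval 1) :=
      dvd_iff_isRoot.2 (by simp)
    have := map_dvd (AdjoinRoot.mk ((Polynomial.X - Polynomial.C 1) ^ n : F[X])) hd
    rw [map_sub, AdjoinRoot.mk_X, AdjoinRoot.mk_C, map_one] at this
    exact this

/-- Spanning by the powers of `nu`. -/
theorem forall_of_nu_pow (h2 : (2 : F) ≠ 0) (hn : n ≠ 0) {M : Type*} [AddCommGroup M] [Module F M]
    (L : RR F n →ₗ[F] M) (h : ∀ k, L (nu F n ^ k) = 0) (r : RR F n) : L r = 0 := by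
  have key : ∀ m, ∀ k, n ≤ k + m → ∀ s, L (nu F n ^ k * s) = 0 := by
    intro m
    induction m with
    | zero =>
      intro k hk s
      rw [pow_eq_zero_of_le (by omega) nu_pow_self, zero_mul, map_zero]
    | succ m ih =>
      intro k hk s
      obtain ⟨q, hq⟩ := nu_dvd_sub_aug h2 hn s
      rw [show s = algebraMap F (RR F n) (raug F hn s) + nu F n * q by rw [← hq]; ring, mul_add,
        map_add, mul_comm _ (algebraMap F (RR F n) _), ← Algebra.smul_def, map_smul, h, smul_zero,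
        zero_add, ← mul_assoc, ← pow_succ]
      exact ih (k + 1) (by omega) q
  simpa using key n 0 (by omega) r

theorem finrank_rr : finrank F (RR F n) = n := by
  have hf : ((Polynomial.X - Polynomial.C 1) ^ n : F[X]) ≠ 0 := pow_ne_zero _ (X_sub_C_ne_zero 1)
  rw [(AdjoinRoot.powerBasis hf).finrank, AdjoinRoot.powerBasis_dim, natDegree_pow,
    natDegree_X_sub_C, mul_one]

instance : FiniteDimensional F (RR F n) :=
  (AdjoinRoot.powerBasis (K := F) (f := (Polynomial.X - Polynomial.C 1) ^ n)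
    (pow_ne_zero _ (X_sub_C_ne_zero 1))).finite

/-- In odd characteristic a unipotent element has a square root. -/
theorem exists_sqrt_unipotent (p : ℕ) [Fact p.Prime] [CharP F p] (hn : n ≠ 0) (h2 : (2 : F) ≠ 0)
    {z : RR F n} (hz : nu F n ∣ z - 1) : ∃ m, (z ^ m) ^ 2 = z := by
  have : Nontrivial (RR F n) := (raug F hn).toRingHom.domain_nontrivial
  have : CharP (RR F n) p :=
    charP_of_injective_algebraMap (algebraMap F (RR F n)).injective p
  have hodd : Odd p := (Fact.out : p.Prime).odd_of_ne_two (by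
    rintro rfl
    exact h2 (by simpa using CharP.cast_eq_zero F 2))
  have hle : n ≤ p ^ n := (Nat.lt_pow_self (Fact.out : p.Prime).one_lt).le
  have h1 : z ^ p ^ n = 1 := by
    obtain ⟨q, hq⟩ := hz
    have := sub_pow_char_pow z (1 : RR F n) (n := n) (p := p)
    rw [one_pow, hq, mul_pow, pow_eq_zero_of_le hle nu_pow_self, zero_mul] at this
    exact sub_eq_zero.1 this.symm
  obtain ⟨m, hm⟩ := hodd.pow (n := n)
  exact ⟨m + 1, by rw [← pow_mul, show (m + 1) * 2 = p ^ n + 1 by omega, pow_succ, h1, one_mul]⟩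

theorem rsig_surjective (p : ℕ) [Fact p.Prime] [CharP F p] (hn : n ≠ 0) (h2 : (2 : F) ≠ 0) :
    Function.Surjective (rsig F n) := by
  obtain ⟨m, hm⟩ := exists_sqrt_unipotent p hn h2 (z := rt F n) (by
    simpa [raug, rLift_rt] using nu_dvd_sub_aug h2 hn (rt F n))
  have hmem : rt F n ∈ (rsig F n).range := ⟨rt F n ^ m, by
    show rsig F n (rt F n ^ m) = _
    rw [map_pow, rsig_rt, ← pow_mul, mul_comm, pow_mul]
    exact hm⟩
  intro r
  induction r using AdjoinRoot.induction_on with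
  | ih q =>
    rw [← AdjoinRoot.aeval_eq]
    exact (Algebra.adjoin_le (R := F) (Set.singleton_subset_iff.2 hmem))
      (Polynomial.aeval_mem_adjoin_singleton F _)

theorem nu_dvd_rsig_nu : nu F n ∣ rsig F n (nu F n) := by
  have h : rsig F n ((un F n)⁻¹ : (RR F n)ˣ) = ((un F n)⁻¹ : (RR F n)ˣ) ^ 2 := by
    have e := rsig_star (F := F) (n := n) (rt F n)
    rw [rstar_rt, rsig_rt, map_pow, rstar_rt] at e
    exact e
  rw [nu, map_sub, rsig_rt, h]
  exact ⟨_, sq_sub_sq _ _ |>.trans (mul_comm _ _)⟩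

end Cfsg.Agent.Ore54
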