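import Cfsg.Agent.Ore54.Ctx
import Cfsg.Agent.Ore54.BadRing

/-!
If `g` is unipotent, free of rank two over the ring of its polynomials with nilpotency index odd,
then `-g` is a commutator of isometries.
-/

set_option autoImplicit false

namespace Cfsg.Agent.Ore54

open Module

variable {F V : Type*} [Field F] [AddCommGroup V] [Module F V]

namespace Ctx

variable (C : Ctx F V)

/-- `g - g⁻¹`. -/
def nuE : Module.End F V := C.g.toLinearMap - C.g.symm.toLinearMap

theorem nuE_apply (v : V) : C.nuE v = C.g v - C.g.symm v := rfl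

theorem nuE_pow_adj (i : ℕ) :
    ∀ v w, C.om ((C.nuE ^ i) v) w = (-1) ^ i * C.om v ((C.nuE ^ i) w) := by
  induction i with
  | zero => simp
  | succ i ih =>
    intro v w
    rw [pow_succ C.nuE, Module.End.mul_apply, ih, pow_succ, Module.End.mul_apply]
    rw [show C.om (C.nuE v) ((C.nuE ^ i) w) = -C.om v (C.nuE ((C.nuE ^ i) w)) by
      simp only [nuE_apply, map_sub, LinearMap.sub_apply, C.om_g_left, C.om_symm_left]; ring]
    rw [← Module.End.mul_apply C.nuE (C.nuE ^ i), ← pow_succ', pow_succ, Module.End.mul_apply]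
    ring

theorem nuE_even (h2 : (2 : F) ≠ 0) {i : ℕ} (hi : Even i) (v : V) :
    C.om ((C.nuE ^ i) v) v = 0 := by
  have h := C.nuE_pow_adj i v v
  rw [hi.neg_one_pow, one_mul, C.skew v] at h
  exact (mul_eq_zero_iff_left h2).1 (by linear_combination h)

theorem exists_isotropise {n : ℕ} (hn : Odd n) (h2 : (2 : F) ≠ 0) (hnil : C.nuE ^ n = 0)
    (x y : V) (hL : C.om ((C.nuE ^ (n - 1)) x) y ≠ 0) :
    ∃ x', (∀ i, C.om ((C.nuE ^ i) x') x' = 0) ∧
      x' - x ∈ Submodule.span F (Set.range fun k : ℕ => (C.nuE ^ (k + 1)) y) := by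
  have hn1 : 1 ≤ n := hn.pos
  have hz : ∀ i, n ≤ i → ∀ v, (C.nuE ^ i) v = 0 := fun i hi v => by
    rw [pow_eq_zero_of_le hi hnil]; rfl
  have hS : ∀ d ∈ Submodule.span F (Set.range fun k : ℕ => (C.nuE ^ (k + 1)) y),
      (C.nuE ^ (n - 1)) d = 0 := by
    intro d hd
    induction hd using Submodule.span_induction with
    | mem d hd =>
      obtain ⟨k, rfl⟩ := hd
      rw [← Module.End.mul_apply, ← pow_add, hz _ (by omega)]
    | zero => simp
    | add _ _ _ _ h1 h2 => simp [h1, h2]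
    | smul c _ _ h1 => simp [h1]
  suffices ∀ m, ∃ x', (∀ i, n ≤ i + m → C.om ((C.nuE ^ i) x') x' = 0) ∧
      x' - x ∈ Submodule.span F (Set.range fun k : ℕ => (C.nuE ^ (k + 1)) y) by
    obtain ⟨x', h, h'⟩ := this n
    exact ⟨x', fun i => h i (by omega), h'⟩
  intro m
  induction m with
  | zero => exact ⟨x, fun i hi => by simp [hz i (by omega)], by simp⟩
  | succ m ih =>
    obtain ⟨x', h, h'⟩ := ih
    rcases Nat.even_or_odd m with hm | hm
    · refine ⟨x', fun i hi => ?_, h'⟩
      rcases Nat.lt_or_ge (i + m) n with hlt | hge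
      · refine C.nuE_even h2 ?_ x'
        obtain ⟨a, rfl⟩ := hm
        obtain ⟨b, rfl⟩ := hn
        exact ⟨b - a, by omega⟩
      · exact h i hge
    rcases Nat.lt_or_ge n (m + 1) with hbig | hsmall
    · exact ⟨x', fun i _ => h i (by omega), h'⟩
    set L := C.om ((C.nuE ^ (n - 1)) x) y
    have hL' : C.om ((C.nuE ^ (n - 1)) x') y = L := by
      rw [show x' = x + (x' - x) by abel, map_add, hS _ h', add_zero]
    have hm1 : 1 ≤ m := hm.pos
    set α := C.om ((C.nuE ^ (n - 1 - m)) x') x' / (2 * L) with hα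
    refine ⟨x' + α • (C.nuE ^ m) y, fun i hi => ?_, ?_⟩
    · rcases Nat.even_or_odd i with hie | hio
      · exact C.nuE_even h2 hie _
      have e1 : C.om ((C.nuE ^ i) ((C.nuE ^ m) y)) x' = -C.om ((C.nuE ^ (i + m)) x') y := by
        rw [← Module.End.mul_apply, ← pow_add, C.nuE_pow_adj, (hio.add_odd hm).neg_one_pow,
          one_mul, C.skew]
      have e2 : C.om ((C.nuE ^ i) x') ((C.nuE ^ m) y) = -C.om ((C.nuE ^ (i + m)) x') y := by
        rw [add_comm i, pow_add, Module.End.mul_apply, C.nuE_pow_adj m, hm.neg_one_pow]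
        ring
      have e3 : C.om ((C.nuE ^ i) ((C.nuE ^ m) y)) ((C.nuE ^ m) y) = 0 := by
        have : C.om ((C.nuE ^ m) ((C.nuE ^ (i + m)) y)) y = 0 := by
          rw [← Module.End.mul_apply, ← pow_add, hz _ (by omega)]; simp
        rw [C.nuE_pow_adj m, hm.neg_one_pow, neg_one_mul, neg_eq_zero] at this
        rwa [← Module.End.mul_apply, ← pow_add]
      simp only [map_add, map_smul, LinearMap.add_apply, LinearMap.smul_apply, smul_eq_mul, e1, e2,
        e3]
      rcases Nat.lt_or_ge (i + m) n with hlt | hge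
      · have hi' : i = n - 1 - m := by omega
        rw [show i + m = n - 1 by omega, hL', hi', hα]
        field_simp
        ring
      · rw [h i hge, hz _ hge]; simp
    · rw [add_sub_right_comm]
      exact Submodule.add_mem _ h' (Submodule.smul_mem _ _
        (Submodule.subset_span ⟨m - 1, by simp [Nat.sub_add_cancel hm1]⟩))

theorem exists_dual {n : ℕ} (hn : Odd n) (hnil : C.nuE ^ n = 0) (x y : V)
    (hL : C.om ((C.nuE ^ (n - 1)) x) y ≠ 0) :
    ∃ y', (∀ i < n - 1, C.om ((C.nuE ^ i) x) y' = 0) ∧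
      C.om ((C.nuE ^ (n - 1)) x) y' = C.om ((C.nuE ^ (n - 1)) x) y := by
  have hz : ∀ i, n ≤ i → ∀ v, (C.nuE ^ i) v = 0 := fun i hi v => by
    rw [pow_eq_zero_of_le hi hnil]; rfl
  suffices ∀ m, ∃ y', (∀ i < n - 1, n - 1 ≤ i + m → C.om ((C.nuE ^ i) x) y' = 0) ∧
      C.om ((C.nuE ^ (n - 1)) x) y' = C.om ((C.nuE ^ (n - 1)) x) y by
    obtain ⟨y', h, h'⟩ := this n
    exact ⟨y', fun i hi => h i hi (by omega), h'⟩
  intro m
  induction m with
  | zero => exact ⟨y, fun i hi hi' => by omega, rfl⟩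
  | succ m ih =>
    obtain ⟨y', h, h'⟩ := ih
    rcases Nat.lt_or_ge (n - 1) (m + 1) with hbig | hsmall
    · exact ⟨y', fun i hi _ => h i hi (by omega), h'⟩
    set L := C.om ((C.nuE ^ (n - 1)) x) y
    set α := -C.om ((C.nuE ^ (n - 1 - (m + 1))) x) y' / ((-1) ^ (m + 1) * L) with hα
    have e : ∀ i, C.om ((C.nuE ^ i) x) ((C.nuE ^ (m + 1)) y') =
        (-1) ^ (m + 1) * C.om ((C.nuE ^ (i + (m + 1))) x) y' := by
      intro i
      rw [add_comm i, pow_add C.nuE (m + 1), Module.End.mul_apply, C.nuE_pow_adj (m + 1),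
        ← mul_assoc, ← mul_pow, neg_one_mul, neg_neg, one_pow, one_mul]
    refine ⟨y' + α • (C.nuE ^ (m + 1)) y', fun i hi hi' => ?_, ?_⟩
    · rw [map_add, map_smul, e, smul_eq_mul]
      rcases Nat.lt_or_ge (i + m) (n - 1) with hlt | hge
      · have hii : i = n - 1 - (m + 1) := by omega
        rw [show i + (m + 1) = n - 1 by omega, h', hii, hα]
        have : ((-1 : F) ^ (m + 1)) ≠ 0 := pow_ne_zero _ (neg_ne_zero.2 one_ne_zero)
        field_simp
        ring
      · rw [h i hi hge, hz _ (by omega)]; simp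
    · rw [map_add, map_smul, e, hz (n - 1 + (m + 1)) (by omega)]
      simp [h']

theorem exists_neg_comm [FiniteDimensional F V] [Finite F] {n : ℕ} (hn : Odd n) (h2 : (2 : F) ≠ 0)
    (hN : (C.g.toLinearMap - 1 : Module.End F V) ^ n = 0) (x y : V)
    (hL : C.om ((C.nuE ^ (n - 1)) x) y ≠ 0)
    (hgen : ∀ U : Submodule F V, C.GInv U → x ∈ U → y ∈ U → U = ⊤) :
    finrank F V = 2 * n ∧
      ∃ a b : V ≃ₗ[F] V, a ∈ C.IsoGroup ∧ b ∈ C.IsoGroup ∧ ∀ v, a (b v) = -C.g (b (a v)) := by
  have hn0 : n ≠ 0 := hn.pos.ne'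
  obtain ⟨p, hp⟩ := CharP.exists F
  have : Fact p.Prime := ⟨CharP.char_is_prime F p⟩
  let φ : RR F n →ₐ[F] Module.End F V := rLift C.g.toLinearMap hN
  have φrt : ∀ v, φ (rt F n) v = C.g v := fun v => by simp [φ]
  have φinv : ∀ v, φ ((un F n)⁻¹ : (RR F n)ˣ) v = C.g.symm v := by
    intro v
    conv_lhs => rw [← C.g.apply_symm_apply v, ← φrt]
    rw [← Module.End.mul_apply, ← map_mul, ← un_val, Units.inv_mul, map_one, Module.End.one_apply]
  have φnu : φ (nu F n) = C.nuE := LinearMap.ext fun v => by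
    simp [nu, φrt, φinv, nuE_apply]
  have φnuk : ∀ k, φ (nu F n ^ k) = C.nuE ^ k := fun k => by rw [map_pow, φnu]
  have hnil : C.nuE ^ n = 0 := by rw [← φnuk, nu_pow_self, map_zero]
  have hadj : ∀ r v w, C.om (φ r v) w = C.om v (φ (rstar F n r) w) := by
    intro r
    induction r using AdjoinRoot.induction_on with
    | ih q =>
      induction q using Polynomial.induction_on with
      | C a =>
        intro v w
        rw [AdjoinRoot.mk_C, ← AdjoinRoot.algebraMap_eq, AlgHom.commutes, AlgHom.commutes,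
          AlgHom.commutes]
        simp
      | add q q' h h' => intro v w; simp [h v w, h' v w]
      | monomial k a h =>
        intro v w
        rw [show Polynomial.C a * Polynomial.X ^ (k + 1) =
            Polynomial.C a * Polynomial.X ^ k * Polynomial.X by ring, map_mul, AdjoinRoot.mk_X,
          map_mul φ, Module.End.mul_apply, show AdjoinRoot.root _ = rt F n from rfl, φrt, h,
          C.om_g_left, map_mul (rstar F n), mul_comm (rstar F n _) (rstar F n (rt F n)), map_mul φ,
          Module.End.mul_apply, rstar_rt, φinv]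
  -- generation
  let E₀ : V → V → (RR F n × RR F n →ₗ[F] V) := fun x y =>
    ((LinearMap.applyₗ x).comp φ.toLinearMap).coprod ((LinearMap.applyₗ y).comp φ.toLinearMap)
  have E₀_apply : ∀ x y r s, E₀ x y (r, s) = φ r x + φ s y := fun _ _ _ _ => rfl
  have hdim : finrank F V ≤ 2 * n := by
    have htop : LinearMap.range (E₀ x y) = ⊤ := hgen _ (by
      rintro _ ⟨⟨r, s⟩, rfl⟩
      exact ⟨(rt F n * r, rt F n * s), by simp [E₀_apply, φrt]⟩) ⟨(1, 0), by simp [E₀_apply]⟩
      ⟨(0, 1), by simp [E₀_apply]⟩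
    have := LinearMap.finrank_range_le (E₀ x y)
    rw [htop, finrank_top, Module.finrank_prod, finrank_rr] at this
    omega
  -- normalise the generators
  obtain ⟨x, y, hxx, hyy, hxy, hL⟩ : ∃ x' y' : V, (∀ i, C.om ((C.nuE ^ i) x') x' = 0) ∧
      (∀ i, C.om ((C.nuE ^ i) y') y' = 0) ∧ (∀ i < n - 1, C.om ((C.nuE ^ i) x') y' = 0) ∧
      C.om ((C.nuE ^ (n - 1)) x') y' ≠ 0 := by
    obtain ⟨x', hx', hd⟩ := C.exists_isotropise hn h2 hnil x y hL
    have hL1 : C.om ((C.nuE ^ (n - 1)) x') y ≠ 0 := by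
      suffices (C.nuE ^ (n - 1)) (x' - x) = 0 by
        rwa [show x' = x + (x' - x) by abel, map_add, this, add_zero]
      refine (Submodule.span_le.2 ?_ : _ ≤ LinearMap.ker (C.nuE ^ (n - 1))) hd
      rintro _ ⟨k, rfl⟩
      show (C.nuE ^ (n - 1)) ((C.nuE ^ (k + 1)) y) = 0
      rw [← Module.End.mul_apply, ← pow_add, pow_eq_zero_of_le (by omega) hnil]; rfl
    obtain ⟨y₁, hy₁, hy₁'⟩ := C.exists_dual hn hnil x' y hL1
    have hL2 : C.om ((C.nuE ^ (n - 1)) y₁) x' ≠ 0 := by
      rw [C.nuE_pow_adj, (show Even (n - 1) from Nat.Odd.sub_odd hn odd_one).neg_one_pow, one_mul, C.skew, neg_ne_zero, hy₁']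
      exact hL1
    obtain ⟨y₂, hy₂, hd₂⟩ := C.exists_isotropise hn h2 hnil y₁ x' hL2
    have hsame : ∀ i, C.om ((C.nuE ^ i) x') y₂ = C.om ((C.nuE ^ i) x') y₁ := by
      intro i
      rw [← sub_eq_zero, ← map_sub]
      refine (Submodule.span_le.2 ?_ : _ ≤ LinearMap.ker (C.om ((C.nuE ^ i) x'))) hd₂
      rintro _ ⟨k, rfl⟩
      show C.om ((C.nuE ^ i) x') ((C.nuE ^ (k + 1)) x') = 0
      have := C.nuE_pow_adj (k + 1) ((C.nuE ^ i) x') x'
      rw [← Module.End.mul_apply, ← pow_add, hx'] at this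
      exact (mul_eq_zero.1 this.symm).resolve_left (pow_ne_zero _ (neg_ne_zero.2 one_ne_zero))
    exact ⟨x', y₂, hx', hy₂, fun i hi => by rw [hsame]; exact hy₁ i hi,
      by rw [hsame, hy₁']; exact hL1⟩
  let lam : RR F n →ₗ[F] F :=
    (C.om.flip y).comp ((LinearMap.applyₗ x).comp φ.toLinearMap)
  have lam_def : ∀ r, lam r = C.om (φ r x) y := fun _ => rfl
  have hiso : ∀ z, (∀ i, C.om ((C.nuE ^ i) z) z = 0) → ∀ r, C.om (φ r z) z = 0 := fun z hz r =>
    forall_of_nu_pow h2 hn0 ((C.om.flip z).comp ((LinearMap.applyₗ z).comp φ.toLinearMap))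
      (fun k => by
        show C.om (φ (nu F n ^ k) z) z = 0
        rw [φnuk]; exact hz k) r
  have lam_nu : ∀ k, k ≠ n - 1 → lam (nu F n ^ k) = 0 := by
    intro k hk
    rw [lam_def, φnuk]
    rcases Nat.lt_or_ge k (n - 1) with h | h
    · exact hxy k h
    · rw [pow_eq_zero_of_le (by omega : n ≤ k) hnil]; simp
  have lam_top : lam (nu F n ^ (n - 1)) ≠ 0 := by rwa [lam_def, φnuk]
  have lam_star : ∀ r, lam (rstar F n r) = lam r := by
    intro r
    have := forall_of_nu_pow h2 hn0 (lam.comp (rstar F n).toLinearMap - lam) (fun k => by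
      show lam (rstar F n (nu F n ^ k)) - lam (nu F n ^ k) = 0
      by_cases hk : k = n - 1
      · rw [hk, rstar_nu_pow, (show Even (n - 1) from Nat.Odd.sub_odd hn odd_one).neg_one_pow, one_mul, sub_self]
      · rw [rstar_nu_pow, lam_nu k hk]
        rcases neg_one_pow_eq_or (RR F n) k with e | e <;> simp [e, lam_nu k hk]) r
    exact sub_eq_zero.1 this
  have lam_nd : ∀ r, (∀ s, lam (r * s) = 0) → r = 0 := by
    intro r hr
    suffices ∀ m ≤ n, nu F n ^ m ∣ r by
      obtain ⟨q, rfl⟩ := this n le_rfl; rw [nu_pow_self, zero_mul]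
    intro m
    induction m with
    | zero => intro _; simp
    | succ m ih =>
      intro hm
      obtain ⟨q, rfl⟩ := ih (by omega)
      obtain ⟨q', hq⟩ := nu_dvd_sub_aug h2 hn0 q
      have h := hr (nu F n ^ (n - 1 - m))
      have hz : nu F n ^ (n - 1) * nu F n = 0 := by
        rw [← pow_succ, pow_eq_zero_of_le (show n ≤ n - 1 + 1 by omega) nu_pow_self]
      have hq' : nu F n ^ (n - 1) * q = raug F hn0 q • nu F n ^ (n - 1) := by
        rw [Algebra.smul_def]
        linear_combination nu F n ^ (n - 1) * hq + q' * hz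
      rw [mul_right_comm, ← pow_add, show m + (n - 1 - m) = n - 1 by omega, hq', map_smul,
        smul_eq_mul, mul_eq_zero] at h
      rw [h.resolve_right lam_top, map_zero, sub_zero] at hq
      exact ⟨q', by rw [hq]; ring⟩
  -- the form in coordinates
  let E := E₀ x y
  have hE : ∀ r s r' s', C.om (E (r, s)) (E (r', s')) =
      lam (r * rstar F n s') - lam (r' * rstar F n s) := by
    intro r s r' s'
    have key : ∀ r s z w, C.om (φ r z) (φ s w) = C.om (φ (rstar F n s * r) z) w := fun r s z w => by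
      rw [map_mul, Module.End.mul_apply, hadj (rstar F n s), rstar_rstar]
    show C.om (φ r x + φ s y) (φ r' x + φ s' y) = _
    simp only [map_add, LinearMap.add_apply]
    rw [key r r', hiso x hxx, key s s', hiso y hyy, key r s', C.skew (φ s y), key r' s, lam_def,
      lam_def, mul_comm r, mul_comm r']
    ring
  have hinj : Function.Injective E := by
    rw [← LinearMap.ker_eq_bot, LinearMap.ker_eq_bot']
    rintro ⟨r, s⟩ h
    have hr : r = 0 := lam_nd r fun t => by
      have := hE r s 0 (rstar F n t)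
      rw [h] at this
      simpa using this.symm
    have hs : s = 0 := lam_nd s fun t => by
      have := hE r s (rstar F n t) 0
      rw [h] at this
      rw [← lam_star, map_mul, mul_comm]
      simpa using this.symm
    simp [hr, hs]
  have hV : finrank F V = 2 * n := by
    refine le_antisymm hdim ?_
    have := LinearMap.finrank_le_finrank_of_injective hinj
    rw [Module.finrank_prod, finrank_rr] at this
    omega
  refine ⟨hV, ?_⟩
  let Ee : (RR F n × RR F n) ≃ₗ[F] V := LinearEquiv.ofBijective E ⟨hinj,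
    (LinearMap.injective_iff_surjective_of_finrank_eq_finrank (by
      rw [Module.finrank_prod, finrank_rr, hV]; omega)).1 hinj⟩
  -- the constants
  have hsigsurj := rsig_surjective (F := F) (n := n) p hn0 h2
  have hsiginj : Function.Injective (rsig F n).toLinearMap :=
    LinearMap.injective_iff_surjective.2 hsigsurj
  obtain ⟨c, hc⟩ : ∃ c, ∀ z, lam (c * rsig F n z) = lam z := by
    let sinv := LinearEquiv.ofBijective (rsig F n).toLinearMap ⟨hsiginj, hsigsurj⟩
    let Ψ : RR F n →ₗ[F] Dual F (RR F n) := (LinearMap.mul F (RR F n)).compr₂ lam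
    have hΨ : Function.Injective Ψ := by
      rw [← LinearMap.ker_eq_bot, LinearMap.ker_eq_bot']
      exact fun r hr => lam_nd r fun s => LinearMap.congr_fun hr s
    obtain ⟨c, hc⟩ := (LinearMap.injective_iff_surjective_of_finrank_eq_finrank
      Subspace.dual_finrank_eq.symm).1 hΨ (lam.comp sinv.symm.toLinearMap)
    refine ⟨c, fun z => (LinearMap.congr_fun hc (rsig F n z)).trans ?_⟩
    show lam (sinv.symm (sinv z)) = lam z
    rw [LinearEquiv.symm_apply_apply]
  have hcstar : rstar F n c = c := by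
    refine sub_eq_zero.1 (lam_nd _ fun s => ?_)
    obtain ⟨z, rfl⟩ := hsigsurj s
    rw [sub_mul, map_sub, hc, sub_eq_zero, ← lam_star, map_mul, rstar_rstar, ← rsig_star, hc,
      lam_star]
  set c₀ := raug F hn0 c with hc₀def
  have hc₀ : c₀ ≠ 0 := by
    intro h0
    obtain ⟨q, hq⟩ := nu_dvd_sub_aug h2 hn0 c
    obtain ⟨q', hq'⟩ := nu_dvd_rsig_nu (F := F) (n := n)
    rw [← hc₀def, h0, map_zero, sub_zero] at hq
    apply lam_top
    rw [← hc, map_pow, hq', hq, mul_pow, mul_mul_mul_comm, ← pow_succ',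
      pow_eq_zero_of_le (by omega) nu_pow_self, zero_mul, map_zero]
  obtain ⟨m, hm⟩ := exists_sqrt_unipotent (F := F) p hn0 h2 (z := c₀⁻¹ • c) (by
    have := nu_dvd_sub_aug h2 hn0 (c₀⁻¹ • c)
    have e : raug F hn0 (c₀⁻¹ • c) = 1 := by
      rw [map_smul, smul_eq_mul, ← hc₀def, inv_mul_cancel₀ hc₀]
    rwa [e, (algebraMap F (RR F n)).map_one] at this)
  set w := (c₀⁻¹ • c) ^ m with hw
  have hws : rstar F n w = w := by rw [hw, map_pow, map_smul, hcstar]
  obtain ⟨P, Q, hPQ⟩ : ∃ P Q : F, P ^ 2 + Q ^ 2 = -c₀ := by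
    have := Fintype.ofFinite F
    have hodd : Fintype.card F % 2 = 1 := by
      refine FiniteField.odd_card_of_char_ne_two ?_
      rw [ringChar.eq F p]
      rintro rfl
      exact h2 (by simpa using CharP.cast_eq_zero F 2)
    obtain ⟨a, b, hab⟩ := FiniteField.exists_root_sum_quadratic (f := (Polynomial.X ^ 2 : Polynomial F))
      (g := Polynomial.X ^ 2 + Polynomial.C c₀) (Polynomial.degree_X_pow 2)
      (Polynomial.degree_X_pow_add_C two_pos c₀) hodd
    exact ⟨a, b, by simp at hab; linear_combination hab⟩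
  let σ := (rsig F n).toLinearMap
  let ui : RR F n := ((un F n)⁻¹ : (RR F n)ˣ)
  let pa : RR F n × RR F n →ₗ[F] RR F n × RR F n :=
    ((LinearMap.mulLeft F ui).comp (LinearMap.snd F _ _)).prod
      (-((LinearMap.mulLeft F ui).comp (LinearMap.fst F _ _)))
  let pb : RR F n × RR F n →ₗ[F] RR F n × RR F n :=
    ((LinearMap.mulLeft F w).comp ((P • σ).comp (LinearMap.fst F _ _) + (Q • σ).comp (LinearMap.snd F _ _))).prod
      ((LinearMap.mulLeft F w).comp ((Q • σ).comp (LinearMap.fst F _ _) - (P • σ).comp (LinearMap.snd F _ _)))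
  have pa_apply : ∀ r s, pa (r, s) = (ui * s, -(ui * r)) := fun _ _ => rfl
  have pb_apply : ∀ r s, pb (r, s) = (w * (P • rsig F n r + Q • rsig F n s),
      w * (Q • rsig F n r - P • rsig F n s)) := fun _ _ => rfl
  have hui : ui * rstar F n ui = 1 := by
    show _ * rstar F n ((un F n)⁻¹ : (RR F n)ˣ) = 1
    rw [rstar_inv]; exact Units.inv_mul _
  let f : (RR F n × RR F n →ₗ[F] RR F n × RR F n) → (⊤ : Submodule F V) →ₗ[F] (⊤ : Submodule F V) :=
    fun h => (Ee.toLinearMap.comp (h.comp Ee.symm.toLinearMap)).restrict fun _ _ => trivial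
  have hf : ∀ h : RR F n × RR F n →ₗ[F] RR F n × RR F n,
      (∀ r s r' s', C.om (E (h (r, s))) (E (h (r', s'))) = C.om (E (r, s)) (E (r', s'))) →
      ∃ a : V ≃ₗ[F] V, a ∈ C.IsoGroup ∧ ∀ r s, a (E (r, s)) = E (h (r, s)) := by
    intro h hh
    obtain ⟨a, ha, hl, -⟩ := C.exists_extend C.nondeg_top (f h) (fun u v => by
      obtain ⟨u, -⟩ := u
      obtain ⟨v, -⟩ := v
      obtain ⟨⟨r, s⟩, rfl⟩ := Ee.surjective u
      obtain ⟨⟨r', s'⟩, rfl⟩ := Ee.surjective v
      show C.om (E (h (Ee.symm (Ee (r, s))))) (E (h (Ee.symm (Ee (r', s'))))) = _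
      rw [Ee.symm_apply_apply, Ee.symm_apply_apply, hh]
      rfl)
    refine ⟨a, ha, fun r s => (hl ⟨E (r, s), trivial⟩).trans ?_⟩
    show E (h (Ee.symm (Ee (r, s)))) = _
    rw [Ee.symm_apply_apply]
  obtain ⟨a, ha, hla⟩ := hf pa (fun r s r' s' => by
    rw [pa_apply, pa_apply, hE, hE]
    simp only [map_neg, mul_neg, map_mul (rstar F n)]
    rw [show ui * s * (rstar F n ui * rstar F n r') = ui * rstar F n ui * (s * rstar F n r') by ring,
      show ui * s' * (rstar F n ui * rstar F n r) = ui * rstar F n ui * (s' * rstar F n r) by ring,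
      hui, one_mul, one_mul, ← lam_star (s * _), ← lam_star (s' * _), map_mul (rstar F n), map_mul (rstar F n), rstar_rstar,
      rstar_rstar, mul_comm (rstar F n s), mul_comm (rstar F n s')]
    ring)
  obtain ⟨b, hb, hlb⟩ := hf pb (fun r s r' s' => by
    have hμ : ∀ t, lam (w * w * rsig F n t) = c₀⁻¹ * lam t := fun t => by
      rw [← pow_two, hw, hm, smul_mul_assoc, map_smul, hc, smul_eq_mul]
    have hsw : ∀ A B, lam (A * rstar F n B) = lam (B * rstar F n A) := fun A B => by
      rw [← lam_star, map_mul, rstar_rstar, mul_comm]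
    rw [pb_apply, pb_apply, hE, hE]
    simp only [map_mul, map_add, map_sub, map_smul, hws, ← rsig_star, mul_add, mul_sub, add_mul,
      sub_mul, smul_mul_assoc, mul_smul_comm, smul_smul, smul_add, smul_sub]
    simp only [mul_mul_mul_comm w _ w _, ← map_mul]
    simp only [hμ, smul_eq_mul, hsw r' r, hsw s' s, hsw s r', hsw s' r]
    have : c₀⁻¹ * c₀ = 1 := inv_mul_cancel₀ hc₀
    linear_combination (c₀⁻¹ * lam (r' * rstar F n s) - c₀⁻¹ * lam (r * rstar F n s')) * hPQ +
      (lam (r * rstar F n s') - lam (r' * rstar F n s)) * this)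
  refine ⟨a, b, ha, hb, fun v => ?_⟩
  obtain ⟨⟨r, s⟩, rfl⟩ := Ee.surjective v
  show a (b (E (r, s))) = -C.g (b (a (E (r, s))))
  have hg : ∀ r s, C.g (E (r, s)) = E (rt F n * r, rt F n * s) := fun r s => by
    show C.g (φ r x + φ s y) = φ (rt F n * r) x + φ (rt F n * s) y
    simp [φrt]
  rw [hlb, pb_apply, hla, pa_apply, hla, pa_apply, hlb, pb_apply, hg, ← map_neg, Prod.neg_mk]
  have hσui : rsig F n ui = ui * ui := by
    show rsig F n ((un F n)⁻¹ : (RR F n)ˣ) = _
    have e := rsig_star (F := F) (n := n) (rt F n)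
    rw [rstar_rt, rsig_rt, map_pow, rstar_rt, pow_two] at e
    exact e
  have h1 : rt F n * ui = 1 := Units.mul_inv (un F n)
  congr 1
  refine Prod.ext ?_ ?_ <;>
    simp only [map_mul, map_neg, hσui, smul_neg, mul_add, mul_sub, mul_smul_comm, neg_add_rev,
      neg_neg, neg_sub, mul_neg, smul_add, smul_sub] <;>
    simp only [← mul_assoc, h1, one_mul, mul_comm w ui, mul_assoc, ← mul_left_comm ui w] <;>
    simp only [← mul_assoc, h1, one_mul] <;> abel

end Ctx

end Cfsg.Agent.Ore54
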