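import Cfsg.Agent.Ore54.Form

/-!
An isometry `g`, the self-adjoint map `T = g + g⁻¹`, and the two properties carried by orthogonal
pieces: having an adapted Lagrangian (`Good`) and carrying a commutator (`Com`).
-/

set_option autoImplicit false

namespace Cfsg.Agent.Ore54

open Module Polynomial

variable {F V : Type*} [Field F] [AddCommGroup V] [Module F V]

/-- A symplectic space with an isometry. -/
structure Ctx (F V : Type*) [Field F] [AddCommGroup V] [Module F V] extends SForm F V where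
  g : V ≃ₗ[F] V
  iso : ∀ v w, om (g v) (g w) = om v w

namespace Ctx

variable (C : Ctx F V)

/-- `g + g⁻¹`. -/
def T : Module.End F V := C.g.toLinearMap + C.g.symm.toLinearMap

theorem T_apply (v : V) : C.T v = C.g v + C.g.symm v := rfl

theorem om_g_left (v w : V) : C.om (C.g v) w = C.om v (C.g.symm w) := by
  rw [← C.iso v (C.g.symm w), C.g.apply_symm_apply]

theorem om_symm_left (v w : V) : C.om (C.g.symm v) w = C.om v (C.g w) := by
  rw [← C.iso (C.g.symm v) w, C.g.apply_symm_apply]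

theorem T_adj (v w : V) : C.om (C.T v) w = C.om v (C.T w) := by
  simp only [T_apply, map_add, LinearMap.add_apply, om_g_left, om_symm_left]; ring

theorem g_T (v : V) : C.g (C.T v) = C.T (C.g v) := by
  simp [T_apply]

theorem g_g (v : V) : C.g (C.g v) = C.T (C.g v) - v := by
  simp [T_apply]

theorem symm_eq (v : V) : C.g.symm v = C.T v - C.g v := by
  simp [T_apply]

/-- Polynomials in `T`. -/
noncomputable def pl (h : F[X]) : Module.End F V := aeval C.T h

theorem pl_mul (h k : F[X]) (v : V) : C.pl (h * k) v = C.pl h (C.pl k v) := by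
  simp [pl]

theorem pl_add (h k : F[X]) (v : V) : C.pl (h + k) v = C.pl h v + C.pl k v := by
  simp [pl]

theorem pl_sub (h k : F[X]) (v : V) : C.pl (h - k) v = C.pl h v - C.pl k v := by
  simp [pl]

theorem pl_comm (h k : F[X]) (v : V) : C.pl h (C.pl k v) = C.pl k (C.pl h v) := by
  rw [← pl_mul, mul_comm, pl_mul]

@[simp] theorem pl_one (v : V) : C.pl 1 v = v := by simp [pl]

@[simp] theorem pl_X (v : V) : C.pl Polynomial.X v = C.T v := by simp [pl]

@[simp] theorem pl_C (c : F) (v : V) : C.pl (Polynomial.C c) v = c • v := by simp [pl]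

theorem pl_adj (h : F[X]) : ∀ v w, C.om (C.pl h v) w = C.om v (C.pl h w) := by
  induction h using Polynomial.induction_on with
  | C a => intro v w; simp
  | add p q hp hq => intro v w; simp [pl_add, hp v w, hq v w]
  | monomial n a ih =>
    intro v w
    rw [show Polynomial.C a * Polynomial.X ^ (n + 1) = Polynomial.C a * Polynomial.X ^ n * Polynomial.X
      by ring, C.pl_mul (Polynomial.C a * Polynomial.X ^ n) Polynomial.X, pl_X, ih, T_adj,
      ← pl_X (C := C) (C.pl _ w), ← pl_mul, mul_comm Polynomial.X]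

theorem g_pl (h : F[X]) : ∀ v, C.g (C.pl h v) = C.pl h (C.g v) := by
  induction h using Polynomial.induction_on with
  | C a => intro v; simp
  | add p q hp hq => intro v; simp [pl_add, hp v, hq v]
  | monomial n a ih =>
    intro v
    rw [show Polynomial.C a * Polynomial.X ^ (n + 1) = Polynomial.C a * Polynomial.X ^ n * Polynomial.X
      by ring, C.pl_mul (Polynomial.C a * Polynomial.X ^ n) Polynomial.X,
      C.pl_mul (Polynomial.C a * Polynomial.X ^ n) Polynomial.X, pl_X, pl_X, ih, g_T]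

theorem om_T_self (v : V) : C.om (C.T v) v = 0 := by
  rw [T_apply, map_add, LinearMap.add_apply, C.om_symm_left, C.skew v (C.g v), add_neg_cancel]

theorem om_pl_X_pow_self : ∀ (n : ℕ) (v : V), C.om (C.pl (Polynomial.X ^ n) v) v = 0
  | 0, v => by simp [C.alt]
  | 1, v => by simp [C.om_T_self]
  | n + 2, v => by
    rw [show (Polynomial.X : F[X]) ^ (n + 2) = Polynomial.X * (Polynomial.X ^ n * Polynomial.X) by
      ring, pl_mul, pl_mul, pl_X, pl_X, T_adj]
    exact om_pl_X_pow_self n (C.T v)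

theorem pl_alt (h : F[X]) (v : V) : C.om (C.pl h v) v = 0 := by
  induction h using Polynomial.induction_on' with
  | add p q hp hq => simp [pl_add, hp, hq]
  | monomial n a =>
    rw [← Polynomial.C_mul_X_pow_eq_monomial, pl_mul, pl_C, map_smul, LinearMap.smul_apply,
      C.om_pl_X_pow_self, smul_zero]

theorem pl_alt' (h : F[X]) (v : V) : C.om v (C.pl h v) = 0 := by
  rw [← pl_adj, pl_alt]

/-- The `T`-cyclic subspace of `x`. -/
def cyc (x : V) : Submodule F V where
  carrier := {v | ∃ h : F[X], v = C.pl h x}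
  add_mem' := by rintro _ _ ⟨h, rfl⟩ ⟨k, rfl⟩; exact ⟨h + k, (C.pl_add h k x).symm⟩
  zero_mem' := ⟨0, by simp [pl]⟩
  smul_mem' := by
    rintro c _ ⟨h, rfl⟩
    exact ⟨Polynomial.C c * h, by rw [pl_mul, pl_C]⟩

theorem mem_cyc {x v : V} : v ∈ C.cyc x ↔ ∃ h : F[X], v = C.pl h x := Iff.rfl

theorem self_mem_cyc (x : V) : x ∈ C.cyc x := ⟨1, by simp⟩

theorem pl_mem_cyc (h : F[X]) {x v : V} (hv : v ∈ C.cyc x) : C.pl h v ∈ C.cyc x := by
  obtain ⟨k, rfl⟩ := hv
  exact ⟨h * k, (C.pl_mul h k x).symm⟩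

/-- An invariant subspace. -/
def GInv (U : Submodule F V) : Prop := ∀ u ∈ U, C.g u ∈ U

theorem symm_mem [FiniteDimensional F V] {U : Submodule F V} (h : C.GInv U) {u : V} (hu : u ∈ U) :
    C.g.symm u ∈ U := by
  let f : U →ₗ[F] U := (C.g.toLinearMap.comp U.subtype).codRestrict U fun u => h u u.2
  obtain ⟨w, hw⟩ := LinearMap.surjective_of_injective (f := f) (fun a b e =>
    Subtype.ext (C.g.injective (congrArg Subtype.val e))) ⟨u, hu⟩
  rw [show C.g.symm u = w from C.g.injective (by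
    rw [C.g.apply_symm_apply]; exact (congrArg Subtype.val hw).symm)]
  exact w.2

theorem T_mem [FiniteDimensional F V] {U : Submodule F V} (h : C.GInv U) {u : V} (hu : u ∈ U) :
    C.T u ∈ U := U.add_mem (h u hu) (C.symm_mem h hu)

theorem pl_mem [FiniteDimensional F V] {U : Submodule F V} (h : C.GInv U) (k : F[X]) :
    ∀ {u : V}, u ∈ U → C.pl k u ∈ U := by
  induction k using Polynomial.induction_on with
  | C a => intro u hu; simpa using U.smul_mem a hu
  | add p q hp hq => intro u hu; rw [pl_add]; exact U.add_mem (hp hu) (hq hu)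
  | monomial n a ih =>
    intro u hu
    rw [show Polynomial.C a * Polynomial.X ^ (n + 1) = Polynomial.C a * Polynomial.X ^ n * Polynomial.X
      by ring, pl_mul, pl_X]
    exact ih (C.T_mem h hu)

theorem gInv_inter_perp [FiniteDimensional F V] {P U : Submodule F V} (hP : C.GInv P)
    (hU : C.GInv U) : C.GInv (U ⊓ C.perp P) := by
  rintro v ⟨hv, hvp⟩
  refine ⟨hU v hv, fun p hp => ?_⟩
  rw [← C.om_symm_left]
  exact hvp _ (C.symm_mem hP hp)

theorem gInv_sup {A B : Submodule F V} (hA : C.GInv A) (hB : C.GInv B) : C.GInv (A ⊔ B) := by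
  intro v hv
  obtain ⟨a, ha, b, hb, rfl⟩ := Submodule.mem_sup.1 hv
  rw [map_add]
  exact Submodule.add_mem_sup (hA a ha) (hB b hb)

theorem mem_isoGroup_g : C.g ∈ C.IsoGroup := C.iso

/-- `-g`. -/
def negC : Ctx F V where
  toSForm := C.toSForm
  g := C.g.trans (LinearEquiv.neg F)
  iso v w := by simp [C.iso]

@[simp] theorem negC_g (v : V) : C.negC.g v = -C.g v := rfl

theorem negC_T (v : V) : C.negC.T v = -C.T v := by
  have h : C.negC.g.symm v = -C.g.symm v := C.negC.g.injective (by simp)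
  rw [T_apply, T_apply, h, negC_g]; abel

theorem negC_gInv {U : Submodule F V} (h : C.GInv U) : C.negC.GInv U :=
  fun u hu => by simpa using U.neg_mem (h u hu)

/-- An adapted Lagrangian. -/
def Good (U : Submodule F V) : Prop :=
  ∃ W : Submodule F V, W ≤ U ∧ C.Isot W ∧ 2 * finrank F W = finrank F U ∧
    (∀ u ∈ W, ∀ v ∈ W, C.om (C.T u) v = 0) ∧ ∀ u ∈ W, C.g u ∈ W → C.g u = u

/-- `g` is a commutator of isometries on `U`. -/
def Com (U : Submodule F V) : Prop :=
  ∃ a b : V ≃ₗ[F] V, a ∈ C.IsoGroup ∧ b ∈ C.IsoGroup ∧ (∀ v ∈ C.perp U, a v = v) ∧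
    (∀ v ∈ C.perp U, b v = v) ∧ ∀ u ∈ U, (a * b * a⁻¹ * b⁻¹) u = C.g u

theorem good_bot : C.Good ⊥ := ⟨⊥, le_rfl, fun a ha b _ => by simp [(Submodule.mem_bot F).1 ha],
  by simp, fun u hu v _ => by simp [(Submodule.mem_bot F).1 hu],
  fun u hu _ => by simp [(Submodule.mem_bot F).1 hu]⟩

theorem com_bot : C.Com ⊥ := ⟨1, 1, one_mem _, one_mem _, fun _ _ => rfl, fun _ _ => rfl,
  fun u hu => by simp [(Submodule.mem_bot F).1 hu]⟩

theorem finrank_sup_orth [FiniteDimensional F V] {A B : Submodule F V} (hA : C.Nondeg A)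
    (h : C.Orth A B) : finrank F ↥(A ⊔ B) = finrank F A + finrank F B := by
  have hb : A ⊓ B = ⊥ := by
    rw [eq_bot_iff]
    rintro v ⟨ha, hb⟩
    exact C.disjoint_perp hA ha fun u hu => h u hu v hb
  have := Submodule.finrank_sup_add_finrank_inf_eq A B
  rwa [hb, finrank_bot, add_zero] at this

theorem Good.sup [FiniteDimensional F V] {A B : Submodule F V} (hA : C.Good A) (hB : C.Good B)
    (hAn : C.Nondeg A) (hAg : C.GInv A) (hBg : C.GInv B) (h : C.Orth A B) :
    C.Good (A ⊔ B) := by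
  obtain ⟨W, hW, hWi, hWd, hWT, hWf⟩ := hA
  obtain ⟨W', hW', hWi', hWd', hWT', hWf'⟩ := hB
  have hd : W ⊓ W' = ⊥ := by
    rw [eq_bot_iff]
    rintro v ⟨ha, hb⟩
    exact C.disjoint_perp hAn (hW ha) fun u hu => h u hu v (hW' hb)
  refine ⟨W ⊔ W', sup_le_sup hW hW', ?_, ?_, ?_, ?_⟩
  · intro u hu v hv
    obtain ⟨a, ha, b, hb, rfl⟩ := Submodule.mem_sup.1 hu
    obtain ⟨a', ha', b', hb', rfl⟩ := Submodule.mem_sup.1 hv
    simp [hWi a ha a' ha', hWi' b hb b' hb', h a (hW ha) b' (hW' hb'),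
      C.eq_zero_comm (h a' (hW ha') b (hW' hb))]
  · have := Submodule.finrank_sup_add_finrank_inf_eq W W'
    rw [hd, finrank_bot, add_zero] at this
    rw [C.finrank_sup_orth hAn h]
    omega
  · intro u hu v hv
    obtain ⟨a, ha, b, hb, rfl⟩ := Submodule.mem_sup.1 hu
    obtain ⟨a', ha', b', hb', rfl⟩ := Submodule.mem_sup.1 hv
    simp [hWT a ha a' ha', hWT' b hb b' hb', h _ (C.T_mem hAg (hW ha)) b' (hW' hb'),
      C.eq_zero_comm (h a' (hW ha') _ (C.T_mem hBg (hW' hb)))]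
  · intro u hu hgu
    obtain ⟨a, ha, b, hb, rfl⟩ := Submodule.mem_sup.1 hu
    obtain ⟨a', ha', b', hb', he⟩ := Submodule.mem_sup.1 hgu
    rw [map_add] at he
    have hz : C.g a - a' = 0 := by
      refine C.disjoint_perp hAn (A.sub_mem (hAg a (hW ha)) (hW ha')) fun w hw => ?_
      have : C.g a - a' = b' - C.g b := by
        rw [sub_eq_sub_iff_add_eq_add, add_comm b' a', he]
      rw [this, map_sub, h w hw b' (hW' hb'), h w hw _ (hBg b (hW' hb)), sub_zero]
    rw [sub_eq_zero] at hz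
    rw [← hz, add_right_inj] at he
    rw [map_add, hWf a ha (hz ▸ ha'), hWf' b hb (he ▸ hb')]

theorem Com.sup [FiniteDimensional F V] {A B : Submodule F V} (hA : C.Com A) (hB : C.Com B)
    (hAn : C.Nondeg A) (hBn : C.Nondeg B) (h : C.Orth A B) : C.Com (A ⊔ B) := by
  obtain ⟨a₁, b₁, ha₁, hb₁, fa₁, fb₁, e₁⟩ := hA
  obtain ⟨a₂, b₂, ha₂, hb₂, fa₂, fb₂, e₂⟩ := hB
  have hAB : ∀ x ∈ A, x ∈ C.perp B := fun x hx u hu => C.eq_zero_comm (h x hx u hu)
  have hBA : ∀ x ∈ B, x ∈ C.perp A := fun x hx u hu => h u hu x hx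
  refine ⟨a₁ * a₂, b₁ * b₂, mul_mem ha₁ ha₂, mul_mem hb₁ hb₂, ?_, ?_, ?_⟩
  · intro v hv
    show a₁ (a₂ v) = v
    rw [fa₂ v fun u hu => hv u (Submodule.mem_sup_right hu),
      fa₁ v fun u hu => hv u (Submodule.mem_sup_left hu)]
  · intro v hv
    show b₁ (b₂ v) = v
    rw [fb₂ v fun u hu => hv u (Submodule.mem_sup_right hu),
      fb₁ v fun u hu => hv u (Submodule.mem_sup_left hu)]
  · intro u hu
    obtain ⟨x, hx, y, hy, rfl⟩ := Submodule.mem_sup.1 hu
    rw [map_add, map_add, ← e₁ x hx, ← e₂ y hy]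
    have inv_fix : ∀ {a : V ≃ₗ[F] V} {v : V}, a v = v → a⁻¹ v = v := fun {a v} e => by
      conv_lhs => rw [← e]
      exact a.symm_apply_apply v
    have k₁ : ∀ {a : V ≃ₗ[F] V}, a ∈ C.IsoGroup → (∀ v ∈ C.perp A, a v = v) → ∀ v ∈ A, a v ∈ A :=
      fun ha fa v hv => C.map_mem_of_fix hAn ha fa hv
    have k₂ : ∀ {a : V ≃ₗ[F] V}, a ∈ C.IsoGroup → (∀ v ∈ C.perp B, a v = v) → ∀ v ∈ B, a v ∈ B :=
      fun ha fa v hv => C.map_mem_of_fix hBn ha fa hv
    congr 1
    · rw [mul_inv_rev a₁, mul_inv_rev b₁]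
      simp only [LinearEquiv.mul_apply]
      have p1 := k₁ (inv_mem hb₁) (fun v hv => inv_fix (fb₁ v hv)) x hx
      have p2 := k₁ (inv_mem ha₁) (fun v hv => inv_fix (fa₁ v hv)) _ p1
      have p3 := k₁ hb₁ fb₁ _ p2
      rw [inv_fix (fb₂ _ (hAB _ p1)), inv_fix (fa₂ _ (hAB _ p2)), fb₂ _ (hAB _ p2),
        fa₂ _ (hAB _ p3)]
    · rw [mul_inv_rev a₁, mul_inv_rev b₁]
      simp only [LinearEquiv.mul_apply]
      have p1 := k₂ (inv_mem hb₂) (fun v hv => inv_fix (fb₂ v hv)) y hy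
      have p2 := k₂ (inv_mem ha₂) (fun v hv => inv_fix (fa₂ v hv)) _ p1
      have p3 := k₂ hb₂ fb₂ _ p2
      have p4 := k₂ ha₂ fa₂ _ p3
      rw [inv_fix (fb₁ y (hBA _ hy)), inv_fix (fa₁ _ (hBA _ p1)), fb₁ _ (hBA _ p3),
        fa₁ _ (hBA _ p4)]

end Ctx

end Cfsg.Agent.Ore54
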