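import Cfsg.Agent.Ore54.Levi

/-!
Regular Levi data: multiplication by a generator of an extension field.
-/

set_option autoImplicit false
set_option linter.unusedSectionVars false

namespace Cfsg.Agent.Ore54

open Polynomial Matrix

attribute [-simp] Matrix.coe_units_inv

variable {F : Type*} [Field F]

/-- Some polynomial kills `a` and is invertible at `a⁻¹`. -/
def Crit {A : Type*} [Ring A] [Algebra F A] (a : Aˣ) : Prop :=
  ∃ p : F[X], aeval (a : A) p = 0 ∧ IsUnit (aeval ((a⁻¹ : Aˣ) : A) p)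

theorem Crit.map {A B : Type*} [Ring A] [Ring B] [Algebra F A] [Algebra F B] {a : Aˣ}
    (h : Crit (F := F) a) (φ : A →ₐ[F] B) : Crit (F := F) (Units.map φ.toMonoidHom a) := by
  obtain ⟨p, h1, h2⟩ := h
  refine ⟨p, ?_, ?_⟩
  · show aeval (φ a) p = 0
    rw [aeval_algHom_apply, h1, map_zero]
  · rw [← map_inv]
    show IsUnit (aeval (φ _) p)
    rw [aeval_algHom_apply]
    exact h2.map φ

variable {ι : Type*} [Fintype ι] [DecidableEq ι]

theorem aeval_transpose (D : Matrix ι ι F) (p : F[X]) : (aeval D p)ᵀ = aeval Dᵀ p := by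
  induction p using Polynomial.induction_on' with
  | add p q hp hq => simp [hp, hq]
  | monomial n a => simp [aeval_monomial, Algebra.algebraMap_eq_smul_one, transpose_pow]

theorem intertwine {A B X : Matrix ι ι F} (h : X * A = B * X) (p : F[X]) :
    X * aeval A p = aeval B p * X := by
  induction p using Polynomial.induction_on' with
  | add p q hp hq => simp [Matrix.mul_add, Matrix.add_mul, hp, hq]
  | monomial n a =>
    simp only [aeval_monomial, Algebra.algebraMap_eq_smul_one, smul_mul_assoc, one_mul,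
      mul_smul_comm, Matrix.one_mul, Matrix.mul_smul, Matrix.smul_mul]
    rw [(show SemiconjBy X A B from h).pow_right n |>.eq]

theorem Crit.regL {D : GL ι F} (h : Crit (F := F) D) : RegL D.val := by
  obtain ⟨p, h1, h2⟩ := h
  refine ⟨fun X _ e => ?_, fun X _ e => ?_⟩
  · have e' : X * D.valᵀ = ((D⁻¹ : GL ι F) : Matrix ι ι F) * X := by
      conv_rhs => rw [← e, ← Matrix.mul_assoc, ← Matrix.mul_assoc, Units.inv_mul, Matrix.one_mul]
    have := intertwine e' p
    rw [← aeval_transpose, h1, transpose_zero, Matrix.mul_zero] at this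
    exact h2.mul_right_eq_zero.1 this.symm
  · have e' : X * D.val = ((D⁻¹ : GL ι F) : Matrix ι ι F)ᵀ * X := by
      conv_rhs => rw [← e, ← Matrix.mul_assoc, ← Matrix.mul_assoc, GL.inv_transpose_mul',
        Matrix.one_mul]
    have := intertwine e' p
    rw [h1, Matrix.mul_zero, ← aeval_transpose] at this
    have hu : IsUnit (aeval ((D⁻¹ : GL ι F) : Matrix ι ι F) p)ᵀ :=
      (Matrix.isUnit_transpose (A := _)).2 h2
    exact hu.mul_right_eq_zero.1 this.symm

/-- `D` with `D * D` regular is regular. -/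
theorem RegL.of_sq {D : Matrix ι ι F} (h : RegL (D * D)) : RegL D := by
  refine ⟨fun X hX e => h.1 X hX ?_, fun X hX e => h.2 X hX ?_⟩
  · rw [transpose_mul]
    calc D * D * X * (Dᵀ * Dᵀ) = D * (D * X * Dᵀ) * Dᵀ := by simp only [Matrix.mul_assoc]
      _ = X := by rw [e, e]
  · rw [transpose_mul]
    calc Dᵀ * Dᵀ * X * (D * D) = Dᵀ * (Dᵀ * X * D) * D := by simp only [Matrix.mul_assoc]
      _ = X := by rw [e, e]

theorem exists_crit [Finite F] {k : ℕ} (hk : k ≠ 0)
    (h : 2 < Nat.card F ^ (k - 1) * (Nat.card F - 1)) :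
    ∃ D : GL (Fin k) F, Crit (F := F) D := by
  obtain ⟨p, hp⟩ := CharP.exists F
  have : Fact p.Prime := ⟨CharP.char_is_prime F p⟩
  have : NeZero k := ⟨hk⟩
  let K := FiniteField.Extension F p k
  obtain ⟨α, hα⟩ := IsCyclic.exists_ofOrder_eq_natCard (α := Kˣ)
  have hcard : Nat.card Kˣ = Nat.card F ^ k - 1 := by
    rw [Nat.card_units, FiniteField.natCard_extension]
  have hcrit : Crit (F := F) α := by
    refine ⟨minpoly F (α : K), minpoly.aeval F _, isUnit_iff_ne_zero.2 fun h0 => ?_⟩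
    obtain ⟨σ, hσ⟩ := minpoly.exists_algEquiv_of_root' (Algebra.IsAlgebraic.isAlgebraic _) h0
    obtain ⟨i, hi, rfl⟩ := FiniteField.Extension.exists_frob_pow_eq F p k σ
    rw [FiniteField.Extension.frob_iterate_apply, ← Units.val_pow_eq_pow_val, Units.val_inj] at hσ
    have hd : Nat.card F ^ k - 1 ∣ Nat.card F ^ i + 1 := by
      rw [← hcard, ← hα, orderOf_dvd_iff_pow_eq_one, pow_succ, hσ, inv_mul_cancel]
    have h1 := Nat.le_of_dvd (by omega) hd
    have h2 : Nat.card F ^ i ≤ Nat.card F ^ (k - 1) :=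
      Nat.pow_le_pow_right Nat.card_pos (by omega)
    have h3 : Nat.card F ^ k = Nat.card F ^ (k - 1) * Nat.card F := by
      rw [← pow_succ]; congr 1; omega
    rw [Nat.mul_sub, mul_one] at h
    omega
  let b : Module.Basis (Fin k) F K :=
    (Module.finBasis F K).reindex (finCongr (FiniteField.finrank_extension F p k))
  exact ⟨_, hcrit.map (Algebra.leftMulMatrix b)⟩

theorem exists_regL [Finite F] {k : ℕ} (h : k ≠ 0 → 2 < Nat.card F ^ (k - 1) * (Nat.card F - 1)) :
    ∃ D : GL (Fin k) F, RegL D.val := by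
  rcases eq_or_ne k 0 with rfl | hk
  · exact ⟨1, fun X _ _ => Subsingleton.elim _ _, fun X _ _ => Subsingleton.elim _ _⟩
  obtain ⟨D, hD⟩ := exists_crit hk (h hk)
  exact ⟨D, hD.regL⟩

/-- The block sum of two copies of a matrix. -/
def dblHom (l : Type*) [Fintype l] [DecidableEq l] :
    Matrix l l F →ₐ[F] Matrix (l ⊕ l) (l ⊕ l) F where
  toFun A := fromBlocks A 0 0 A
  map_one' := fromBlocks_one
  map_mul' A B := by simp [fromBlocks_multiply]
  map_zero' := fromBlocks_zero
  map_add' A B := by simp [fromBlocks_add]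
  commutes' r := by
    simp [Algebra.algebraMap_eq_smul_one, ← fromBlocks_one, fromBlocks_smul]

theorem exists_regL_neg [Finite F] {l : ℕ} (hl : l ≠ 0)
    (h : 2 < Nat.card F ^ (l - 1) * (Nat.card F - 1)) :
    ∃ D W : GL (Fin (2 * l)) F, RegL D.val ∧ (W * D * W⁻¹).val = -D.val := by
  obtain ⟨Cm, hC⟩ := exists_crit hl h
  let e : Fin l ⊕ Fin l ≃ Fin (2 * l) := finSumFinEquiv.trans (finCongr (two_mul l).symm)
  let φ : Matrix (Fin l ⊕ Fin l) (Fin l ⊕ Fin l) F →ₐ[F] Matrix (Fin (2 * l)) (Fin (2 * l)) F :=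
    (Matrix.reindexAlgEquiv F F e).toAlgHom
  let D₀ : GL (Fin l ⊕ Fin l) F :=
    ⟨fromBlocks 0 Cm.val 1 0, fromBlocks 0 1 ((Cm⁻¹ : GL (Fin l) F) : Matrix _ _ F) 0,
      by simp [fromBlocks_multiply, fromBlocks_one], by simp [fromBlocks_multiply, fromBlocks_one]⟩
  let W₀ : GL (Fin l ⊕ Fin l) F :=
    ⟨fromBlocks 1 0 0 (-1), fromBlocks 1 0 0 (-1),
      by simp [fromBlocks_multiply, fromBlocks_one], by simp [fromBlocks_multiply, fromBlocks_one]⟩
  have hsq : D₀.val * D₀.val = dblHom (Fin l) Cm.val := by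
    simp [D₀, dblHom, fromBlocks_multiply]
  have hWD : W₀.val * D₀.val * ((W₀⁻¹ : GL (Fin l ⊕ Fin l) F) : Matrix _ _ F) = -D₀.val := by
    simp [W₀, D₀, fromBlocks_multiply, fromBlocks_neg]
  refine ⟨Units.map φ.toMonoidHom D₀, Units.map φ.toMonoidHom W₀, RegL.of_sq ?_, ?_⟩
  · have := ((hC.map (dblHom (Fin l))).map φ).regL
    show RegL (φ D₀.val * φ D₀.val)
    rw [← map_mul, hsq]
    exact this
  · rw [← map_inv, ← map_mul, ← map_mul]
    show φ (W₀.val * D₀.val * ((W₀⁻¹ : GL (Fin l ⊕ Fin l) F) : Matrix _ _ F)) = -φ D₀.val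
    rw [hWD, map_neg]

end Cfsg.Agent.Ore54
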