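import Mathlib

/-!
Alternating forms: perpendiculars, projections on nondegenerate subspaces and extension of
isometries of a nondegenerate subspace to the whole space.
-/

set_option autoImplicit false

namespace Cfsg.Agent.Ore54

open Module

variable {F V : Type*} [Field F] [AddCommGroup V] [Module F V]

/-- A nondegenerate alternating form. -/
structure SForm (F V : Type*) [Field F] [AddCommGroup V] [Module F V] where
  om : V →ₗ[F] V →ₗ[F] F
  alt : ∀ v, om v v = 0
  nd : ∀ v, (∀ w, om v w = 0) → v = 0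

namespace SForm

variable (S : SForm F V)

theorem skew (v w : V) : S.om v w = -S.om w v := by
  have h := S.alt (v + w)
  simp only [map_add, LinearMap.add_apply, S.alt, zero_add, add_zero] at h
  linear_combination h

theorem eq_zero_comm {v w : V} (h : S.om v w = 0) : S.om w v = 0 := by
  rw [S.skew, h, neg_zero]

/-- The perpendicular of a subspace. -/
def perp (U : Submodule F V) : Submodule F V where
  carrier := {v | ∀ u ∈ U, S.om u v = 0}
  add_mem' := fun ha hb u hu => by simp [ha u hu, hb u hu]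
  zero_mem' := fun u _ => by simp
  smul_mem' := fun c v hv u hu => by simp [hv u hu]

theorem mem_perp {U : Submodule F V} {v : V} : v ∈ S.perp U ↔ ∀ u ∈ U, S.om u v = 0 := Iff.rfl

/-- Two subspaces are orthogonal. -/
def Orth (A B : Submodule F V) : Prop := ∀ a ∈ A, ∀ b ∈ B, S.om a b = 0

theorem Orth.symm {A B : Submodule F V} (h : S.Orth A B) : S.Orth B A :=
  fun b hb a ha => S.eq_zero_comm (h a ha b hb)

/-- A totally isotropic subspace. -/
def Isot (W : Submodule F V) : Prop := S.Orth W W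

/-- The restriction of the form to `U` is nondegenerate. -/
def Nondeg (U : Submodule F V) : Prop := ∀ u ∈ U, (∀ v ∈ U, S.om u v = 0) → u = 0

theorem nondeg_top : S.Nondeg ⊤ := fun u _ h => S.nd u fun w => h w trivial

theorem disjoint_perp {U : Submodule F V} (hU : S.Nondeg U) {v : V} (hv : v ∈ U)
    (hp : v ∈ S.perp U) : v = 0 :=
  hU v hv fun w hw => S.eq_zero_comm (hp w hw)

/-- The functional `u ↦ ω(u, v)` on `U`. -/
def toDual (U : Submodule F V) : V →ₗ[F] Dual F U where
  toFun v := (S.om.flip v).comp U.subtype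
  map_add' a b := by ext u; simp
  map_smul' c a := by ext u; simp

@[simp] theorem toDual_apply (U : Submodule F V) (v : V) (u : U) :
    S.toDual U v u = S.om (u : V) v := rfl

theorem exists_rep [FiniteDimensional F V] {U : Submodule F V} (hU : S.Nondeg U) (φ : Dual F U) :
    ∃ b ∈ U, ∀ u (hu : u ∈ U), S.om u b = φ ⟨u, hu⟩ := by
  let f : U →ₗ[F] Dual F U := (S.toDual U).comp U.subtype
  have hinj : Function.Injective f := by
    rw [← LinearMap.ker_eq_bot, LinearMap.ker_eq_bot']
    intro v hv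
    refine Subtype.ext (hU v v.2 fun w hw => S.eq_zero_comm ?_)
    exact LinearMap.congr_fun hv ⟨w, hw⟩
  obtain ⟨b, hb⟩ := (LinearMap.injective_iff_surjective_of_finrank_eq_finrank
    (Subspace.dual_finrank_eq).symm).1 hinj φ
  exact ⟨b, b.2, fun u hu => LinearMap.congr_fun hb ⟨u, hu⟩⟩

theorem exists_split [FiniteDimensional F V] {P : Submodule F V} (hP : S.Nondeg P) (v : V) :
    ∃ p ∈ P, v - p ∈ S.perp P := by
  obtain ⟨b, hb, h⟩ := S.exists_rep hP (S.toDual P v)
  refine ⟨b, hb, fun u hu => ?_⟩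
  rw [map_sub, h u hu, S.toDual_apply, sub_self]

theorem nondeg_inter_perp [FiniteDimensional F V] {P U : Submodule F V} (hP : S.Nondeg P)
    (hU : S.Nondeg U) (hPU : P ≤ U) : S.Nondeg (U ⊓ S.perp P) := by
  rintro v ⟨hv, hvp⟩ h
  refine hU v hv fun w hw => ?_
  obtain ⟨p, hp, hr⟩ := S.exists_split hP w
  have h1 := h (w - p) ⟨U.sub_mem hw (hPU hp), hr⟩
  rw [map_sub, sub_eq_zero] at h1
  rw [h1, S.eq_zero_comm (hvp p hp)]

theorem sup_inter_perp [FiniteDimensional F V] {P U : Submodule F V} (hP : S.Nondeg P)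
    (hPU : P ≤ U) : P ⊔ (U ⊓ S.perp P) = U := by
  refine le_antisymm (sup_le hPU inf_le_left) fun v hv => ?_
  obtain ⟨p, hp, hr⟩ := S.exists_split hP v
  exact Submodule.mem_sup.2 ⟨p, hp, v - p, ⟨U.sub_mem hv (hPU hp), hr⟩, by abel⟩

theorem nondeg_sup {A B : Submodule F V} (hA : S.Nondeg A) (hB : S.Nondeg B) (h : S.Orth A B) :
    S.Nondeg (A ⊔ B) := by
  intro v hv hall
  obtain ⟨a, ha, b, hb, rfl⟩ := Submodule.mem_sup.1 hv
  have ha0 : a = 0 := hA a ha fun w hw => by
    have := hall w (Submodule.mem_sup_left hw)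
    rwa [map_add, LinearMap.add_apply, S.eq_zero_comm (h w hw b hb), add_zero] at this
  subst ha0
  have hb0 : b = 0 := hB b hb fun w hw => by
    simpa using hall w (Submodule.mem_sup_right hw)
  simp [hb0]

/-- Isometries of the whole space. -/
def IsoGroup : Subgroup (V ≃ₗ[F] V) where
  carrier := {a | ∀ v w, S.om (a v) (a w) = S.om v w}
  one_mem' := fun _ _ => rfl
  mul_mem' := fun {a b} ha hb v w => by
    show S.om (a (b v)) (a (b w)) = _
    rw [ha, hb]
  inv_mem' := fun {a} ha v w => by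
    show S.om (a.symm v) (a.symm w) = _
    rw [← ha, a.apply_symm_apply, a.apply_symm_apply]

theorem mem_isoGroup {a : V ≃ₗ[F] V} :
    a ∈ S.IsoGroup ↔ ∀ v w, S.om (a v) (a w) = S.om v w := Iff.rfl

/-- An isometry fixing the perpendicular of a nondegenerate subspace preserves the subspace. -/
theorem map_mem_of_fix [FiniteDimensional F V] {U : Submodule F V} (hU : S.Nondeg U)
    {a : V ≃ₗ[F] V} (ha : a ∈ S.IsoGroup) (hfix : ∀ v ∈ S.perp U, a v = v) {u : V} (hu : u ∈ U) :
    a u ∈ U := by
  obtain ⟨p, hp, hr⟩ := S.exists_split hU (a u)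
  suffices a u - p = 0 by rwa [sub_eq_zero.1 this]
  refine S.nd _ fun w => ?_
  obtain ⟨p', hp', hr'⟩ := S.exists_split hU w
  have e1 : S.om (a u - p) p' = 0 := S.eq_zero_comm (hr p' hp')
  have e3 : S.om (a u) (w - p') = 0 := by
    rw [← hfix _ hr', ha]; exact hr' u hu
  calc S.om (a u - p) w = S.om (a u - p) p' + (S.om (a u) (w - p') - S.om p (w - p')) := by
        simp only [map_sub, LinearMap.sub_apply]; ring
    _ = 0 := by rw [e1, e3, hr' p hp, sub_zero, add_zero]

/-- An endomorphism of a nondegenerate subspace preserving the form extends to an isometry fixing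
the perpendicular. -/
theorem exists_extend [FiniteDimensional F V] {U : Submodule F V} (hU : S.Nondeg U)
    (f : U →ₗ[F] U) (hf : ∀ u v : U, S.om (f u : V) (f v : V) = S.om (u : V) (v : V)) :
    ∃ a : V ≃ₗ[F] V, a ∈ S.IsoGroup ∧ (∀ u : U, a u = f u) ∧ ∀ v ∈ S.perp U, a v = v := by
  classical
  have hd : Disjoint U (S.perp U) :=
    Submodule.disjoint_def.2 fun v hv hp => S.disjoint_perp hU hv hp
  have hc : IsCompl U (S.perp U) := by
    refine ⟨hd, codisjoint_iff.2 (eq_top_iff.2 fun v _ => ?_)⟩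
    obtain ⟨p, hp, hr⟩ := S.exists_split hU v
    exact Submodule.mem_sup.2 ⟨p, hp, v - p, hr, by abel⟩
  let a₀ : V →ₗ[F] V := LinearMap.ofIsCompl hc (U.subtype.comp f) (S.perp U).subtype
  have hl : ∀ u : U, a₀ u = f u := fun u => by simp [a₀]
  have hr : ∀ v ∈ S.perp U, a₀ v = v := fun v hv => by
    simpa [a₀] using LinearMap.ofIsCompl_apply_right hc (φ := U.subtype.comp f)
      (ψ := (S.perp U).subtype) ⟨v, hv⟩
  have hiso : ∀ v w, S.om (a₀ v) (a₀ w) = S.om v w := by
    intro v w
    obtain ⟨p, hp, hpr⟩ := S.exists_split hU v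
    obtain ⟨p', hp', hpr'⟩ := S.exists_split hU w
    set r := v - p with hrdef
    set r' := w - p' with hr'def
    rw [show v = p + r by rw [hrdef]; abel, show w = p' + r' by rw [hr'def]; abel, map_add a₀,
      map_add a₀, hl ⟨p, hp⟩, hl ⟨p', hp'⟩, hr r hpr, hr r' hpr']
    simp only [map_add, LinearMap.add_apply, hpr' _ (f ⟨p, hp⟩).2, hpr' p hp,
      S.eq_zero_comm (hpr _ (f ⟨p', hp'⟩).2), S.eq_zero_comm (hpr p' hp'), hf]
  have hinj : Function.Injective a₀ := by
    rw [← LinearMap.ker_eq_bot, LinearMap.ker_eq_bot']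
    exact fun v hv => S.nd v fun w => by rw [← hiso, hv]; simp
  exact ⟨LinearEquiv.ofInjectiveEndo a₀ hinj, fun v w => hiso v w, hl, hr⟩

end SForm

end Cfsg.Agent.Ore54
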