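import Mathlib

/-!
A symplectic matrix whose upper left block is `W D W⁻¹ D⁻¹`, for a regular Levi element
`diag(D, D⁻ᵀ)`, is a commutator.
-/

set_option autoImplicit false
set_option linter.unusedSectionVars false

namespace Cfsg.Agent.Ore54

open Matrix

attribute [-simp] Matrix.coe_units_inv

variable {F : Type*} [Field F] {ι : Type*} [Fintype ι] [DecidableEq ι]

abbrev SpG (ι F : Type*) [Field F] [Fintype ι] [DecidableEq ι] := Matrix.symplecticGroup ι F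

theorem spG_ext {g h : SpG ι F} (e : (g : Matrix (ι ⊕ ι) (ι ⊕ ι) F) = h.1) : g = h := Subtype.ext e

/-- `[1 0; R 1]`. -/
def lwM (R : Matrix ι ι F) (hR : Rᵀ = R) : SpG ι F :=
  ⟨fromBlocks 1 0 R 1, SymplecticGroup.fromBlocks_mem_iff.2 ⟨by simp [hR], by simp, by simp⟩⟩

/-- `[1 S; 0 1]`. -/
def upM (S : Matrix ι ι F) (hS : Sᵀ = S) : SpG ι F :=
  ⟨fromBlocks 1 S 0 1, SymplecticGroup.fromBlocks_mem_iff.2 ⟨by simp, by simp [hS], by simp⟩⟩

theorem GL.transpose_inv_mul' (A : GL ι F) :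
    (A : Matrix ι ι F)ᵀ * ((A⁻¹ : GL ι F) : Matrix ι ι F)ᵀ = 1 := by
  rw [← transpose_mul, Units.inv_mul, transpose_one]

theorem GL.inv_transpose_mul' (A : GL ι F) :
    ((A⁻¹ : GL ι F) : Matrix ι ι F)ᵀ * (A : Matrix ι ι F)ᵀ = 1 := by
  rw [← transpose_mul, Units.mul_inv, transpose_one]

/-- `diag(A, A⁻ᵀ)`. -/
def dgM (A : GL ι F) : SpG ι F :=
  ⟨fromBlocks A.val 0 0 ((A⁻¹ : GL ι F) : Matrix ι ι F)ᵀ,
    SymplecticGroup.fromBlocks_mem_iff.2 ⟨by simp, by simp, by simp [GL.transpose_inv_mul']⟩⟩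

theorem dgM_val (A : GL ι F) :
    (dgM A).1 = fromBlocks A.val 0 0 ((A⁻¹ : GL ι F) : Matrix ι ι F)ᵀ := rfl

theorem dgM_mul (A B : GL ι F) : dgM (A * B) = dgM A * dgM B :=
  spG_ext <| by simp [dgM, fromBlocks_multiply]

theorem dgM_inv (A : GL ι F) : dgM A⁻¹ = (dgM A)⁻¹ := by
  refine (inv_eq_of_mul_eq_one_right ?_).symm
  rw [← dgM_mul, mul_inv_cancel]
  exact spG_ext <| by simp [dgM, fromBlocks_one]

/-- No symmetric matrix is fixed by `X ↦ D X Dᵀ` or by `X ↦ Dᵀ X D`. -/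
def RegL (D : Matrix ι ι F) : Prop :=
  (∀ X : Matrix ι ι F, Xᵀ = X → D * X * Dᵀ = X → X = 0) ∧
    ∀ X : Matrix ι ι F, Xᵀ = X → Dᵀ * X * D = X → X = 0

theorem RegL.neg {D : Matrix ι ι F} (h : RegL D) : RegL (-D) :=
  ⟨fun X hX e => h.1 X hX (by simpa using e), fun X hX e => h.2 X hX (by simpa using e)⟩

theorem exists_twist (A : Matrix ι ι F)
    (h : ∀ X : Matrix ι ι F, Xᵀ = X → A * X * Aᵀ = X → X = 0) (R : Matrix ι ι F) (hR : Rᵀ = R) :
    ∃ X : Matrix ι ι F, Xᵀ = X ∧ A * X * Aᵀ - X = R := by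
  let Sy : Submodule F (Matrix ι ι F) :=
    { carrier := {X | Xᵀ = X}
      add_mem' := fun {a b} ha hb => by simp_all
      zero_mem' := transpose_zero
      smul_mem' := fun c X hX => by simp_all }
  let f : Sy →ₗ[F] Sy :=
    { toFun := fun X => ⟨A * X.1 * Aᵀ - X.1, by
        show (A * X.1 * Aᵀ - X.1)ᵀ = _
        rw [transpose_sub, transpose_mul, transpose_mul, transpose_transpose,
          show X.1ᵀ = X.1 from X.2, Matrix.mul_assoc]⟩
      map_add' := fun X Y => Subtype.ext <| by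
        simp [Matrix.mul_add, Matrix.add_mul]; abel
      map_smul' := fun c X => Subtype.ext <| by simp [smul_sub] }
  have hinj : Function.Injective f := by
    rw [← LinearMap.ker_eq_bot, LinearMap.ker_eq_bot']
    exact fun X hX => Subtype.ext (h X.1 X.2 (sub_eq_zero.1 (congrArg Subtype.val hX)))
  obtain ⟨X, hX⟩ := LinearMap.injective_iff_surjective.1 hinj ⟨R, hR⟩
  exact ⟨X.1, X.2, congrArg Subtype.val hX⟩

theorem exists_lw_conj {D : GL ι F} (h : RegL D.val) (R : Matrix ι ι F) (hR : Rᵀ = R) :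
    ∃ p : SpG ι F, p * dgM D * p⁻¹ = lwM R hR * dgM D := by
  obtain ⟨X, hX, he⟩ := exists_twist D.valᵀ
    (fun X hX e => h.2 X hX (by simpa using e)) R hR
  rw [transpose_transpose] at he
  have hY : (D.valᵀ * X * D.val)ᵀ = D.valᵀ * X * D.val := by
    simp [transpose_mul, hX, Matrix.mul_assoc]
  refine ⟨lwM _ hY, ?_⟩
  rw [mul_inv_eq_iff_eq_mul]
  refine spG_ext ?_
  simp only [lwM, dgM, Submonoid.coe_mul, fromBlocks_multiply]
  simp only [Matrix.one_mul, Matrix.mul_one, Matrix.mul_zero, Matrix.zero_mul, add_zero, zero_add]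
  congr 1
  rw [← he, Matrix.sub_mul, ← Matrix.mul_assoc ((D⁻¹ : GL ι F) : Matrix ι ι F)ᵀ,
    ← Matrix.mul_assoc ((D⁻¹ : GL ι F) : Matrix ι ι F)ᵀ, GL.inv_transpose_mul', Matrix.one_mul]
  abel

theorem exists_up_conj {D : GL ι F} (h : RegL D.val) (S : Matrix ι ι F) (hS : Sᵀ = S) :
    ∃ q : SpG ι F, q * (dgM D)⁻¹ * q⁻¹ = (dgM D)⁻¹ * upM S hS := by
  obtain ⟨X, hX, he⟩ := exists_twist D.val h.1 S hS
  refine ⟨upM X hX, ?_⟩
  rw [mul_inv_eq_iff_eq_mul, ← dgM_inv]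
  refine spG_ext ?_
  simp only [upM, dgM, Submonoid.coe_mul, fromBlocks_multiply, inv_inv]
  simp only [Matrix.one_mul, Matrix.mul_one, Matrix.mul_zero, Matrix.zero_mul, add_zero, zero_add]
  congr 1
  rw [← Matrix.mul_add, ← he, add_sub_cancel, Matrix.mul_assoc D.val, ← Matrix.mul_assoc _ D.val,
    Units.inv_mul, Matrix.one_mul]

theorem exists_siegelL (g : SpG ι F) (A : GL ι F) (hA : g.1.toBlocks₁₁ = A) :
    ∃ (R : Matrix ι ι F) (hR : Rᵀ = R) (S : Matrix ι ι F) (hS : Sᵀ = S),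
      g = lwM R hR * dgM A * upM S hS := by
  obtain ⟨B, C, D, hg⟩ : ∃ B C D, g.1 = fromBlocks A.val B C D :=
    ⟨_, _, _, by rw [← hA]; exact (fromBlocks_toBlocks _).symm⟩
  have hm := g.2
  rw [hg] at hm
  obtain ⟨h1, -, h3⟩ := SymplecticGroup.fromBlocks_mem_iff.1 hm
  have hm' := SymplecticGroup.transpose_mem hm
  rw [fromBlocks_transpose] at hm'
  obtain ⟨h4, -, -⟩ := SymplecticGroup.fromBlocks_mem_iff.1 hm'
  simp only [transpose_transpose] at h4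
  set Ai : Matrix ι ι F := ((A⁻¹ : GL ι F) : Matrix ι ι F) with hAi
  have e1 : A.valᵀ * Aiᵀ = 1 := GL.transpose_inv_mul' A
  have e2 : Aiᵀ * A.valᵀ = 1 := GL.inv_transpose_mul' A
  have e3 : A.val * Ai = 1 := Units.mul_inv A
  have e4 : Ai * A.val = 1 := Units.inv_mul A
  have hR : (C * Ai)ᵀ = C * Ai := by
    calc (C * Ai)ᵀ = Aiᵀ * Cᵀ := transpose_mul _ _
      _ = Aiᵀ * Cᵀ * (A.val * Ai) := by rw [e3, Matrix.mul_one]
      _ = Aiᵀ * (Cᵀ * A.val) * Ai := by simp only [Matrix.mul_assoc]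
      _ = Aiᵀ * A.valᵀ * C * Ai := by rw [← h1]; simp only [Matrix.mul_assoc]
      _ = C * Ai := by rw [e2, Matrix.one_mul]
  have hS : (Ai * B)ᵀ = Ai * B := by
    calc (Ai * B)ᵀ = Bᵀ * Aiᵀ := transpose_mul _ _
      _ = (Ai * A.val) * Bᵀ * Aiᵀ := by rw [e4, Matrix.one_mul]
      _ = Ai * (A.val * Bᵀ) * Aiᵀ := by simp only [Matrix.mul_assoc]
      _ = Ai * B * (A.valᵀ * Aiᵀ) := by rw [h4]; simp only [Matrix.mul_assoc]
      _ = Ai * B := by rw [e1, Matrix.mul_one]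
  refine ⟨C * Ai, hR, Ai * B, hS, spG_ext ?_⟩
  rw [hg]
  simp only [lwM, dgM, upM, Submonoid.coe_mul, fromBlocks_multiply]
  simp only [Matrix.one_mul, Matrix.mul_one, Matrix.mul_zero, Matrix.zero_mul, add_zero, zero_add]
  congr 1
  · rw [← Matrix.mul_assoc, e3, Matrix.one_mul]
  · rw [Matrix.mul_assoc, e4, Matrix.mul_one]
  · calc D = Aiᵀ * (A.valᵀ * D) := by rw [← Matrix.mul_assoc, e2, Matrix.one_mul]
      _ = Aiᵀ * (1 + Cᵀ * B) := by rw [← h3, sub_add_cancel]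
      _ = Aiᵀ + Aiᵀ * Cᵀ * B := by rw [Matrix.mul_add, Matrix.mul_one, Matrix.mul_assoc]
      _ = C * Ai * A.val * (Ai * B) + Aiᵀ := by
        rw [← transpose_mul C Ai, hR, add_comm, Matrix.mul_assoc C Ai A.val, e4, Matrix.mul_one,
          Matrix.mul_assoc]

/-- The core of the argument. -/
theorem exists_comm_of_block (g : SpG ι F) (D W : GL ι F) (h : RegL D.val)
    (h' : RegL (W * D * W⁻¹).val) (hA : g.1.toBlocks₁₁ = (W * D * W⁻¹ * D⁻¹ : GL ι F).val) :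
    ∃ a b : SpG ι F, g = a * b * a⁻¹ * b⁻¹ := by
  obtain ⟨R, hR, S, hS, rfl⟩ := exists_siegelL g _ hA
  obtain ⟨p, hp⟩ := exists_lw_conj h' R hR
  obtain ⟨q, hq⟩ := exists_up_conj h S hS
  refine ⟨p * dgM W * dgM D * (p * dgM W)⁻¹, q * (p * dgM W)⁻¹, ?_⟩
  rw [dgM_mul (W * D * W⁻¹), dgM_inv D, ← mul_assoc, ← hp, mul_assoc _ (dgM D)⁻¹, ← hq, dgM_mul,
    dgM_mul, dgM_inv]
  group

end Cfsg.Agent.Ore54
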