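import Cfsg.Agent.Ore54.Ctx
import Cfsg.Agent.Ore54.Levi

/-!
From an adapted Lagrangian to a symplectic frame in which the upper left block of `g` is `1`, and
from there to a commutator.
-/

set_option autoImplicit false
set_option linter.unusedSectionVars false

namespace Cfsg.Agent.Ore54

open Module Matrix

variable {F V : Type*} [Field F] [AddCommGroup V] [Module F V] [FiniteDimensional F V]

namespace SForm

variable (S : SForm F V)

/-- A symplectic frame of `U`. -/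
structure Frame (U : Submodule F V) (ι : Type*) [Fintype ι] [DecidableEq ι] where
  e : ι → V
  f : ι → V
  e_mem : ∀ i, e i ∈ U
  f_mem : ∀ i, f i ∈ U
  ee : ∀ i j, S.om (e i) (e j) = 0
  ff : ∀ i j, S.om (f i) (f j) = 0
  fe : ∀ i j, S.om (f i) (e j) = (1 : Matrix ι ι F) i j
  card : finrank F U = 2 * Fintype.card ι

variable {S}
variable {U : Submodule F V} {ι : Type*} [Fintype ι] [DecidableEq ι] (Fr : S.Frame U ι)

/-- Coordinates to vectors. -/
def Frame.emb : (ι ⊕ ι → F) →ₗ[F] V := Fintype.linearCombination F (Sum.elim Fr.e Fr.f)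

theorem Frame.emb_apply (v : ι ⊕ ι → F) :
    Fr.emb v = (∑ i, v (.inl i) • Fr.e i) + ∑ i, v (.inr i) • Fr.f i := by
  simp [Frame.emb, Fintype.linearCombination_apply, Fintype.sum_sum_type]

theorem Frame.emb_mem (v : ι ⊕ ι → F) : Fr.emb v ∈ U := by
  rw [Fr.emb_apply]
  exact U.add_mem (U.sum_mem fun i _ => U.smul_mem _ (Fr.e_mem i))
    (U.sum_mem fun i _ => U.smul_mem _ (Fr.f_mem i))

theorem Frame.emb_single_inl (i : ι) : Fr.emb (Pi.single (.inl i) 1) = Fr.e i := by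
  simp [Frame.emb]

theorem Frame.om_f_emb (i : ι) (v : ι ⊕ ι → F) : S.om (Fr.f i) (Fr.emb v) = v (.inl i) := by
  simp [Fr.emb_apply, Fr.ff, Fr.fe, Matrix.one_apply]

theorem Frame.om_e_emb (i : ι) (v : ι ⊕ ι → F) : S.om (Fr.e i) (Fr.emb v) = -v (.inr i) := by
  simp [Fr.emb_apply, Fr.ee, S.skew (Fr.e i) (Fr.f _), Fr.fe, Matrix.one_apply]

theorem Frame.om_emb (v w : ι ⊕ ι → F) :
    S.om (Fr.emb v) (Fr.emb w) = v ⬝ᵥ (Matrix.J ι F *ᵥ w) := by
  rw [Fr.emb_apply v]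
  simp [Fr.om_f_emb, Fr.om_e_emb, dotProduct, Matrix.J, Matrix.mulVec, Fintype.sum_sum_type,
    Matrix.one_apply, Finset.sum_neg_distrib]

theorem Frame.emb_inj : Function.Injective Fr.emb := by
  rw [← LinearMap.ker_eq_bot, LinearMap.ker_eq_bot']
  intro v hv
  funext x
  rcases x with i | i
  · have := Fr.om_f_emb i v; simpa [hv] using this.symm
  · have := Fr.om_e_emb i v; simpa [hv] using this.symm

theorem Frame.exists_emb_eq {u : V} (hu : u ∈ U) : ∃ v, Fr.emb v = u := by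
  have h1 : LinearMap.range Fr.emb ≤ U := by rintro _ ⟨v, rfl⟩; exact Fr.emb_mem v
  have h2 : LinearMap.range Fr.emb = U := Submodule.eq_of_le_of_finrank_eq h1 (by
    rw [LinearMap.finrank_range_of_inj Fr.emb_inj, Fr.card, Module.finrank_pi, Fintype.card_sum]
    omega)
  rwa [← h2] at hu

/-- Coordinates of `U`. -/
noncomputable def Frame.equiv : (ι ⊕ ι → F) ≃ₗ[F] U :=
  LinearEquiv.ofBijective (Fr.emb.codRestrict U Fr.emb_mem)
    ⟨fun _ _ h => Fr.emb_inj (congrArg Subtype.val h), fun u => by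
      obtain ⟨v, hv⟩ := Fr.exists_emb_eq u.2
      exact ⟨v, Subtype.ext hv⟩⟩

@[simp] theorem Frame.equiv_apply (v : ι ⊕ ι → F) : (Fr.equiv v : V) = Fr.emb v := rfl

theorem symp_bilin (A : SpG ι F) (v w : ι ⊕ ι → F) :
    (A.1 *ᵥ v) ⬝ᵥ (Matrix.J ι F *ᵥ (A.1 *ᵥ w)) = v ⬝ᵥ (Matrix.J ι F *ᵥ w) := by
  have h := SymplecticGroup.mem_iff'.1 A.2
  conv_rhs => rw [← h]
  rw [← vecMul_transpose, ← dotProduct_mulVec, mulVec_mulVec, mulVec_mulVec]

theorem Frame.exists_lift (hU : S.Nondeg U) (A : SpG ι F) :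
    ∃ a : V ≃ₗ[F] V, a ∈ S.IsoGroup ∧ (∀ v, a (Fr.emb v) = Fr.emb (A.1 *ᵥ v)) ∧
      ∀ v ∈ S.perp U, a v = v := by
  let f : U →ₗ[F] U :=
    Fr.equiv.toLinearMap.comp ((Matrix.mulVecLin A.1).comp Fr.equiv.symm.toLinearMap)
  have hf : ∀ v, f (Fr.equiv v) = Fr.equiv (A.1 *ᵥ v) := fun v => by simp [f]
  obtain ⟨a, ha, hl, hfix⟩ := S.exists_extend hU f (fun u w => by
    obtain ⟨u, rfl⟩ := Fr.equiv.surjective u
    obtain ⟨w, rfl⟩ := Fr.equiv.surjective w
    rw [hf, hf, equiv_apply, equiv_apply, equiv_apply, equiv_apply, Fr.om_emb, Fr.om_emb,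
      symp_bilin])
  exact ⟨a, ha, fun v => by simpa [hf] using hl (Fr.equiv v), hfix⟩

end SForm

namespace Ctx

variable (C : Ctx F V)
variable {U : Submodule F V} {ι : Type*} [Fintype ι] [DecidableEq ι] (Fr : C.Frame U ι)

theorem exists_matrix (hg : C.GInv U) :
    ∃ M : SpG ι F, ∀ v, C.g (Fr.emb v) = Fr.emb (M.1 *ᵥ v) := by
  let L : (ι ⊕ ι → F) →ₗ[F] (ι ⊕ ι → F) :=
    Fr.equiv.symm.toLinearMap.comp
      (((C.g.toLinearMap.comp Fr.emb).codRestrict U fun v => hg _ (Fr.emb_mem v)))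
  have hL : ∀ v, C.g (Fr.emb v) = Fr.emb (LinearMap.toMatrix' L *ᵥ v) := by
    intro v
    rw [LinearMap.toMatrix'_mulVec, ← Fr.equiv_apply (L v)]
    simp [L]
  refine ⟨⟨LinearMap.toMatrix' L, SymplecticGroup.mem_iff'.2 ?_⟩, hL⟩
  refine Matrix.ext_of_mulVec_single fun j => ?_
  funext i
  have := C.iso (Fr.emb (Pi.single i 1)) (Fr.emb (Pi.single j 1))
  rw [hL, hL, Fr.om_emb, Fr.om_emb, mulVec_mulVec, ← vecMul_transpose, ← dotProduct_mulVec,
    mulVec_mulVec, single_one_dotProduct, single_one_dotProduct, ← Matrix.mul_assoc] at this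
  exact this

theorem com_of_spG (hU : C.Nondeg U) (M a b : SpG ι F)
    (hM : ∀ v, C.g (Fr.emb v) = Fr.emb (M.1 *ᵥ v)) (e : M = a * b * a⁻¹ * b⁻¹) : C.Com U := by
  obtain ⟨a', ha, la, fa⟩ := Fr.exists_lift hU a
  obtain ⟨b', hb, lb, fb⟩ := Fr.exists_lift hU b
  have inv_lift : ∀ {c : V ≃ₗ[F] V} {A : SpG ι F}, (∀ v, c (Fr.emb v) = Fr.emb (A.1 *ᵥ v)) →
      ∀ v, c⁻¹ (Fr.emb v) = Fr.emb ((A⁻¹ : SpG ι F).1 *ᵥ v) := by
    intro c A h v
    refine c.injective ?_
    rw [h, mulVec_mulVec, show A.1 * (A⁻¹ : SpG ι F).1 = (A * A⁻¹ : SpG ι F).1 from rfl,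
      mul_inv_cancel]
    show c (c.symm _) = _
    simp
  refine ⟨a', b', ha, hb, fa, fb, fun u hu => ?_⟩
  obtain ⟨v, rfl⟩ := Fr.exists_emb_eq hu
  simp only [LinearEquiv.mul_apply]
  rw [inv_lift lb, inv_lift la, lb, la, hM, mulVec_mulVec, mulVec_mulVec, mulVec_mulVec, e]
  congr 1

theorem com_of_block (hU : C.Nondeg U) (hg : C.GInv U) (D W : GL ι F) (h : RegL D.val)
    (h' : RegL (W * D * W⁻¹).val)
    (hA : ∀ i j, C.om (Fr.f i) (C.g (Fr.e j)) = (W * D * W⁻¹ * D⁻¹ : GL ι F).val i j) :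
    C.Com U := by
  obtain ⟨M, hM⟩ := C.exists_matrix Fr hg
  obtain ⟨a, b, e⟩ := exists_comm_of_block M D W h h' (by
    ext i j
    rw [← hA, ← Fr.emb_single_inl, hM, Fr.om_f_emb, mulVec_single_one]
    rfl)
  exact C.com_of_spG Fr hU M a b hM e

theorem exists_frame_of_good (hU : C.Nondeg U) (hgU : C.GInv U) (hG : C.Good U) :
    ∃ k, finrank F U = 2 * k ∧ ∃ Fr : C.Frame U (Fin k),
      ∀ i j, C.om (Fr.f i) (C.g (Fr.e j)) = (1 : Matrix (Fin k) (Fin k) F) i j := by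
  obtain ⟨W, hW, hWi, hWd, hWT, hWf⟩ := hG
  -- `W` is its own perpendicular inside `U`
  have hperp : ∀ u ∈ U, (∀ w ∈ W, C.om w u = 0) → u ∈ W := by
    let f : U →ₗ[F] Dual F W := (C.toDual W).comp U.subtype
    have hs : LinearMap.range f = ⊤ := by
      refine eq_top_iff.2 fun φ _ => ?_
      obtain ⟨φ', hφ'⟩ := LinearMap.dualMap_surjective_of_injective
        (Submodule.inclusion_injective hW) φ
      obtain ⟨b, hb, h⟩ := C.exists_rep hU φ'
      refine ⟨⟨b, hb⟩, LinearMap.ext fun w => ?_⟩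
      rw [← hφ']
      exact h w (hW w.2)
    have hk := f.finrank_range_add_finrank_ker
    rw [hs, finrank_top, Subspace.dual_finrank_eq] at hk
    have hle : W ≤ (LinearMap.ker f).map U.subtype := fun w hw =>
      ⟨⟨w, hW hw⟩, LinearMap.ext fun v => hWi v v.2 w hw, rfl⟩
    have heq := Submodule.eq_of_le_of_finrank_eq hle (by
      rw [Submodule.finrank_map_subtype_eq]
      omega)
    intro u hu h
    rw [heq]
    exact ⟨⟨u, hu⟩, LinearMap.ext fun v => h v v.2, rfl⟩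
  -- the image of `g - 1` on `W`
  let N : Submodule F V := W.map (C.g.toLinearMap - LinearMap.id)
  have hNU : N ≤ U ⊔ U.map C.g.toLinearMap := by
    rintro _ ⟨u, hu, rfl⟩
    exact Submodule.mem_sup.2 ⟨-u, U.neg_mem (hW hu), C.g u,
      Submodule.mem_map_of_mem (f := C.g.toLinearMap) (hW hu), by simp; abel⟩
  have hNi : C.Isot N := by
    rintro _ ⟨u, hu, rfl⟩ _ ⟨v, hv, rfl⟩
    have h1 := hWT u hu v hv
    rw [T_apply, map_add, LinearMap.add_apply, C.om_symm_left] at h1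
    simp only [LinearMap.sub_apply, LinearEquiv.coe_coe, LinearMap.id_apply, map_sub, C.iso,
      hWi u hu v hv]
    linear_combination -h1
  have hNW : ∀ v ∈ N, v ∈ W → v = 0 := by
    rintro _ ⟨u, hu, rfl⟩ hv
    simp only [LinearMap.sub_apply, LinearEquiv.coe_coe, LinearMap.id_apply] at hv ⊢
    rw [hWf u hu (by simpa using W.add_mem hv hu), sub_self]
  have hNU' : N ≤ U := by
    refine hNU.trans (sup_le le_rfl ?_)
    rintro _ ⟨u, hu, rfl⟩
    exact hgU u hu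
  -- a Lagrangian complement containing it
  obtain ⟨Z, ⟨hNZ, hZU, hZi, hZW⟩, hmax⟩ : ∃ Z : Submodule F V,
      (N ≤ Z ∧ Z ≤ U ∧ C.Isot Z ∧ ∀ v ∈ Z, v ∈ W → v = 0) ∧
        ∀ Z' : Submodule F V, N ≤ Z' → Z' ≤ U → C.Isot Z' → (∀ v ∈ Z', v ∈ W → v = 0) →
          Z ≤ Z' → Z' = Z := by
    obtain ⟨Z, hZ⟩ := exists_maximal_of_wellFoundedGT (fun Z : Submodule F V =>
      N ≤ Z ∧ Z ≤ U ∧ C.Isot Z ∧ ∀ v ∈ Z, v ∈ W → v = 0) ⟨N, le_rfl, hNU', hNi, hNW⟩
    exact ⟨Z, hZ.1, fun Z' h1 h2 h3 h4 hle => le_antisymm (hZ.2 ⟨h1, h2, h3, h4⟩ hle) hle⟩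
  let a : Z →ₗ[F] Dual F W := (C.toDual W).comp Z.subtype
  have ha : Function.Injective a := by
    rw [← LinearMap.ker_eq_bot, LinearMap.ker_eq_bot']
    exact fun z hz => Subtype.ext (hZW z z.2 (hperp z (hZU z.2) fun w hw =>
      LinearMap.congr_fun hz ⟨w, hw⟩))
  have hz1 : finrank F Z ≤ finrank F W :=
    (LinearMap.finrank_le_finrank_of_injective ha).trans_eq Subspace.dual_finrank_eq
  have hzk : finrank F Z = finrank F W := by
    refine le_antisymm hz1 (not_lt.1 fun hlt => ?_)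
    let fU : U →ₗ[F] Dual F Z := (C.toDual Z).comp U.subtype
    let fW : W →ₗ[F] Dual F Z := a.dualMap.comp (Dual.eval F W)
    have hsW : Function.Surjective fW :=
      (LinearMap.dualMap_surjective_of_injective ha).comp (Module.evalEquiv F W).surjective
    have k1 := fW.finrank_range_add_finrank_ker
    rw [LinearMap.range_eq_top.2 hsW, finrank_top, Subspace.dual_finrank_eq] at k1
    have k2 := fU.finrank_range_add_finrank_ker
    have k3 : finrank F (LinearMap.range fU) ≤ finrank F Z :=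
      (Submodule.finrank_le _).trans_eq Subspace.dual_finrank_eq
    have k4 := Submodule.finrank_add_le_finrank_add_finrank Z
      ((LinearMap.ker fW).map W.subtype)
    rw [Submodule.finrank_map_subtype_eq] at k4
    obtain ⟨x, hx, hxn⟩ : ∃ x ∈ (LinearMap.ker fU).map U.subtype,
        x ∉ Z ⊔ (LinearMap.ker fW).map W.subtype := by
      by_contra hno
      push Not at hno
      have := Submodule.finrank_mono (show (LinearMap.ker fU).map U.subtype ≤ _ from hno)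
      rw [Submodule.finrank_map_subtype_eq] at this
      omega
    obtain ⟨⟨x, hxU⟩, hxk, rfl⟩ := hx
    have hxZ : ∀ z ∈ Z, C.om z x = 0 := fun z hz => LinearMap.congr_fun hxk ⟨z, hz⟩
    refine hxn (Submodule.mem_sup_left ?_)
    rw [← hmax (Z ⊔ Submodule.span F {x}) (hNZ.trans le_sup_left)
      (sup_le hZU ((Submodule.span_singleton_le_iff_mem _ _).2 hxU)) ?_ ?_ le_sup_left]
    · exact Submodule.mem_sup_right (Submodule.mem_span_singleton_self x)
    · intro u hu v hv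
      obtain ⟨z, hz, p, hp, rfl⟩ := Submodule.mem_sup.1 hu
      obtain ⟨z', hz', p', hp', rfl⟩ := Submodule.mem_sup.1 hv
      obtain ⟨c, rfl⟩ := Submodule.mem_span_singleton.1 hp
      obtain ⟨c', rfl⟩ := Submodule.mem_span_singleton.1 hp'
      simp [hZi z hz z' hz', hxZ z hz, C.eq_zero_comm (hxZ z' hz'), C.alt]
    · intro v hv hvW
      obtain ⟨z, hz, p, hp, rfl⟩ := Submodule.mem_sup.1 hv
      obtain ⟨c, rfl⟩ := Submodule.mem_span_singleton.1 hp
      by_cases hc : c = 0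
      · rw [hc, zero_smul, add_zero] at hvW ⊢
        exact hZW z hz hvW
      exfalso
      refine hxn (Submodule.mem_sup.2 ⟨-(c⁻¹ • z), Z.neg_mem (Z.smul_mem _ hz),
        c⁻¹ • (z + c • x), ⟨c⁻¹ • ⟨_, hvW⟩, ?_, rfl⟩, ?_⟩)
      · refine Submodule.smul_mem _ _ (LinearMap.ext fun z' => ?_)
        show C.om (z + c • x) z' = 0
        simp [hZi z hz z' z'.2, C.eq_zero_comm (hxZ z' z'.2)]
      · rw [smul_add, smul_smul, inv_mul_cancel₀ hc, one_smul]
        exact neg_add_cancel_left _ _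
  let ae : Z ≃ₗ[F] Dual F W := LinearEquiv.ofBijective a
    ⟨ha, (LinearMap.injective_iff_surjective_of_finrank_eq_finrank
      (hzk.trans Subspace.dual_finrank_eq.symm)).1 ha⟩
  let bW := Module.finBasis F W
  let f : Fin (finrank F W) → V := fun i => (ae.symm (-bW.coord i) : Z)
  have hfe : ∀ i j, C.om (f i) (bW j) = (1 : Matrix _ _ F) i j := by
    intro i j
    have h : C.om (bW j : V) (f i) = (-bW.coord i) (bW j) :=
      LinearMap.congr_fun (ae.apply_symm_apply (-bW.coord i)) (bW j)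
    rw [C.skew, h]
    simp [Matrix.one_apply, Finsupp.single_apply, eq_comm]
  refine ⟨finrank F W, hWd.symm, ⟨fun i => bW i, f, fun i => hW (bW i).2,
    fun i => hZU (ae.symm _).2, fun i j => hWi _ (bW i).2 _ (bW j).2,
    fun i j => hZi _ (ae.symm _).2 _ (ae.symm _).2, hfe, by simp [hWd]⟩, fun i j => ?_⟩
  show C.om (f i) (C.g (bW j)) = _
  have h0 : C.om (f i) (C.g (bW j) - bW j) = 0 :=
    hZi _ (ae.symm _).2 _ (hNZ ⟨bW j, (bW j).2, by simp⟩)
  rw [map_sub, sub_eq_zero] at h0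
  rw [h0, hfe]

theorem com_of_good (hU : C.Nondeg U) (hg : C.GInv U) (hG : C.Good U)
    (hD : ∀ k, finrank F U = 2 * k → ∃ D : GL (Fin k) F, RegL D.val) : C.Com U := by
  obtain ⟨k, hk, Fr, hFr⟩ := C.exists_frame_of_good hU hg hG
  obtain ⟨D, hD⟩ := hD k hk
  refine C.com_of_block Fr hU hg D 1 hD (by simpa using hD) fun i j => ?_
  rw [hFr]
  simp

theorem com_of_negC_good (hU : C.Nondeg U) (hg : C.GInv U) (hG : C.negC.Good U)
    (hD : ∀ k, finrank F U = 2 * k →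
      ∃ D W : GL (Fin k) F, RegL D.val ∧ (W * D * W⁻¹).val = -D.val) : C.Com U := by
  obtain ⟨k, hk, Fr, hFr⟩ := C.negC.exists_frame_of_good hU (C.negC_gInv hg) hG
  obtain ⟨D, W, hD, hW⟩ := hD k hk
  refine C.com_of_block Fr hU hg D W hD (by rw [hW]; exact hD.neg) fun i j => ?_
  have h := hFr i j
  rw [negC_g, map_neg, neg_eq_iff_eq_neg] at h
  rw [Units.val_mul, hW, neg_mul, Units.mul_inv, Matrix.neg_apply]
  exact h

end Ctx

end Cfsg.Agent.Ore54
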