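import Cfsg.Agent.Ore54.Unip
import Cfsg.Agent.Ore54.Bad

/-!
Every invariant nondegenerate subspace is the orthogonal sum of a good one and of bad pieces.
-/

set_option autoImplicit false

namespace Cfsg.Agent.Ore54

open Module Polynomial

variable {F V : Type*} [Field F] [AddCommGroup V] [Module F V] [FiniteDimensional F V]

namespace Ctx

variable (C : Ctx F V)

theorem negC_negC_g (v : V) : C.negC.negC.g v = C.g v := by simp

theorem gInv_of_negC {U : Submodule F V} (h : C.negC.GInv U) : C.GInv U :=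
  fun u hu => by simpa using U.neg_mem (h u hu)

theorem negC_pl_pow (k : ℕ) (v : V) :
    C.negC.pl (dPol ^ k) v = (-1 : F) ^ k • C.pl ((Polynomial.X + Polynomial.C 2) ^ k) v := by
  induction k generalizing v with
  | zero => simp
  | succ k ih =>
    rw [pow_succ, pl_mul, ih, pl_dPol, negC_T, pow_succ (Polynomial.X + Polynomial.C 2), pl_mul,
      pl_add, pl_X, pl_C, pow_succ]
    rw [show -C.T v - (2 : F) • v = (-1 : F) • (C.T v + (2 : F) • v) by module, map_smul, smul_smul]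

/-- The restriction to an invariant nondegenerate subspace. -/
noncomputable def res {P : Submodule F V} (hn : C.Nondeg P) (hg : C.GInv P) : Ctx F P where
  om := C.om.compl₁₂ P.subtype P.subtype
  alt v := C.alt v
  nd v h := Subtype.ext (hn v v.2 fun w hw => h ⟨w, hw⟩)
  g :=
    { toFun := fun v => ⟨C.g v, hg v v.2⟩
      invFun := fun v => ⟨C.g.symm v, C.symm_mem hg v.2⟩
      map_add' := fun u v => Subtype.ext (map_add C.g (u : V) v)
      map_smul' := fun c v => Subtype.ext (map_smul C.g c (v : V))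
      left_inv := fun v => Subtype.ext (C.g.symm_apply_apply v)
      right_inv := fun v => Subtype.ext (C.g.apply_symm_apply v) }
  iso v w := C.iso v w

theorem nuE_nuE (v : V) :
    C.nuE (C.nuE v) = C.pl ((Polynomial.X + Polynomial.C 2) * dPol) v := by
  rw [pl_mul, pl_dPol, pl_add, pl_X, pl_C]
  simp only [nuE_apply, T_apply, map_sub, map_add, map_smul, LinearEquiv.apply_symm_apply,
    LinearEquiv.symm_apply_apply]
  module

theorem nuE_pow_two_mul (k : ℕ) :
    ∀ v, (C.nuE ^ (2 * k)) v = C.pl ((Polynomial.X + Polynomial.C 2) ^ k * dPol ^ k) v := by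
  induction k with
  | zero => simp
  | succ k ih =>
    intro v
    rw [show 2 * (k + 1) = 2 * k + 1 + 1 by ring, pow_succ, pow_succ, Module.End.mul_apply,
      Module.End.mul_apply, ih, nuE_nuE, ← pl_mul]
    congr 2
    ring

theorem N_pow_two_mul {j : ℕ} : ∀ v, C.pl (dPol ^ j) v = 0 → (C.N ^ (2 * j)) v = 0 := by
  induction j with
  | zero => intro v hv; simpa using hv
  | succ j ih =>
    intro v hv
    rw [show 2 * (j + 1) = 2 * j + 2 by ring, pow_add, Module.End.mul_apply, pow_two,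
      Module.End.mul_apply, N_N]
    refine ih _ ?_
    rw [← pl_mul, ← pow_succ, ← g_pl, hv, map_zero]

/-- A piece on which `g` need not be good. -/
def IsBad (P : Submodule F V) : Prop :=
  C.GInv P ∧ C.Nondeg P ∧ C.Com P ∧ C.negC.Good P ∧
    ∃ e, 1 ≤ e ∧ finrank F P = 2 * (2 * e - 1) ∧ (e = 1 → ∀ u ∈ P, C.g u = -u)

theorem isBad_of_negC [Finite F] (h2 : (2 : F) ≠ 0) {e : ℕ} {x y : V}
    (h : C.negC.UPair e x y) {U : Submodule F V} (hU : C.GInv U) (hxU : x ∈ U) (hyU : y ∈ U) :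
    ∃ P ≤ U, x ∈ P ∧ C.IsBad P := by
  obtain ⟨P, hg, hn, hG, hx, hy, hmin⟩ := h.piece
  set C' := C.negC with hC'
  let R := C'.res hn hg
  have hcoe : ∀ (k : ℕ) (v : P),
      (((R.g.toLinearMap - 1 : Module.End F P) ^ k) v : V) = (C'.N ^ k) v := by
    intro k
    induction k with
    | zero => simp
    | succ k ih =>
      intro v
      rw [pow_succ, pow_succ, Module.End.mul_apply, Module.End.mul_apply, ih]
      rfl
  have hcoe' : ∀ (k : ℕ) (v : P), ((R.nuE ^ k) v : V) = (C'.nuE ^ k) v := by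
    intro k
    induction k with
    | zero => simp
    | succ k ih =>
      intro v
      rw [pow_succ, pow_succ, Module.End.mul_apply, Module.End.mul_apply, ih]
      rfl
  have he := h.he
  have hn' : Odd (2 * e - 1) := ⟨e - 1, by omega⟩
  have hK : C'.GInv (LinearMap.ker (C'.N ^ (2 * e - 1))) := by
    intro v hv
    rw [LinearMap.mem_ker] at hv ⊢
    have : ∀ k v, (C'.N ^ k) (C'.g v) = C'.g ((C'.N ^ k) v) := by
      intro k
      induction k with
      | zero => simp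
      | succ k ih =>
        intro v
        rw [pow_succ, Module.End.mul_apply, Module.End.mul_apply, ← ih]
        simp [N_apply]
    rw [this, hv, map_zero]
  have hkill : ∀ z, C'.pl (dPol ^ (e - 1)) (C'.N z) = 0 → z ∈ LinearMap.ker (C'.N ^ (2 * e - 1)) := by
    intro z hz
    rw [LinearMap.mem_ker, show 2 * e - 1 = 2 * (e - 1) + 1 by omega, pow_succ,
      Module.End.mul_apply]
    exact C'.N_pow_two_mul _ hz
  have hN : (R.g.toLinearMap - 1 : Module.End F P) ^ (2 * e - 1) = 0 := LinearMap.ext fun v =>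
    Subtype.ext (by
      rw [hcoe]
      exact hmin _ hK (hkill x h.hNx) (hkill y h.hNy) v.2)
  have hL : R.om ((R.nuE ^ (2 * e - 1 - 1)) ⟨x, hx⟩) ⟨y, hy⟩ ≠ 0 := by
    show C'.om ((R.nuE ^ (2 * e - 1 - 1)) ⟨x, hx⟩ : V) y ≠ 0
    rw [hcoe', show 2 * e - 1 - 1 = 2 * (e - 1) by omega, C'.nuE_pow_two_mul, C'.pl_mul,
      C'.pl_eq_eval (by rw [← C'.pl_mul, ← pow_succ', Nat.sub_add_cancel he, h.hx]), map_smul,
      LinearMap.smul_apply, h.hxy, smul_eq_mul, mul_one]
    simp only [eval_pow, eval_add, eval_X, eval_C]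
    exact pow_ne_zero _ (by rw [← two_mul]; exact mul_ne_zero h2 h2)
  obtain ⟨hdim, a, b, ha, hb, hab⟩ := R.exists_neg_comm hn' h2 hN ⟨x, hx⟩ ⟨y, hy⟩ hL (by
    intro W hW hxW hyW
    have hle : P ≤ W.map P.subtype := hmin _ (by
      rintro _ ⟨u, hu, rfl⟩
      exact ⟨R.g u, hW u hu, rfl⟩) ⟨_, hxW, rfl⟩ ⟨_, hyW, rfl⟩
    refine eq_top_iff.2 fun v _ => ?_
    obtain ⟨u, hu, huv⟩ := hle v.2
    rwa [Subtype.ext huv] at hu)
  refine ⟨P, hmin U (C.negC_gInv hU) hxU hyU, hx, C.gInv_of_negC hg, hn, ?_, hG, e, he, hdim, ?_⟩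
  · obtain ⟨a', ha', la, fa⟩ := C.exists_extend (U := P) hn a.toLinearMap ha
    obtain ⟨b', hb', lb, fb⟩ := C.exists_extend (U := P) hn b.toLinearMap hb
    refine ⟨a', b', ha', hb', fa, fb, fun u hu => ?_⟩
    have ea : ∀ v : P, a'⁻¹ (v : V) = (a.symm v : P) := fun v => a'.injective (by
      show a' (a'.symm v) = _
      simp [la])
    have eb : ∀ v : P, b'⁻¹ (v : V) = (b.symm v : P) := fun v => b'.injective (by
      show b' (b'.symm v) = _
      simp [lb])
    simp only [LinearEquiv.mul_apply]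
    rw [eb ⟨u, hu⟩, ea, lb]
    simp only [LinearEquiv.coe_coe]
    rw [la]
    simp only [LinearEquiv.coe_coe]
    rw [hab, a.apply_symm_apply, b.apply_symm_apply]
    show -C'.g u = C.g u
    simp [hC']
  · intro he1 u hu
    subst he1
    have := hmin (LinearMap.ker (C'.N ^ (2 * 1 - 1))) hK (hkill x h.hNx) (hkill y h.hNy) hu
    simp [N_apply, hC'] at this
    rw [sub_eq_zero, neg_eq_iff_eq_neg] at this
    exact this

theorem exists_piece [Finite F] {U : Submodule F V} (hUn : C.Nondeg U) (hUg : C.GInv U)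
    (hU : U ≠ ⊥) :
    ∃ P ≤ U, P ≠ ⊥ ∧ C.GInv P ∧ C.Nondeg P ∧ (C.Good P ∨ C.IsBad P) := by
  -- an irreducible polynomial killing a nonzero vector
  obtain ⟨p, hp, v₀, hv₀U, hv₀, hpv₀⟩ : ∃ p : F[X], Irreducible p ∧
      ∃ v ∈ U, v ≠ 0 ∧ C.pl p v = 0 := by
    have key : ∀ q : F[X], q ≠ 0 → ∀ v ∈ U, v ≠ 0 → C.pl q v = 0 →
        ∃ p, Irreducible p ∧ ∃ v ∈ U, v ≠ 0 ∧ C.pl p v = 0 := by
      intro q
      induction q using UniqueFactorizationMonoid.induction_on_prime with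
      | h₁ => intro h; exact absurd rfl h
      | h₂ q hq =>
        intro _ v _ hv h0
        obtain ⟨k, rfl⟩ := hq
        refine absurd ?_ hv
        rw [← C.pl_one v, ← k.inv_mul, pl_mul, h0, map_zero]
      | h₃ a r ha hr ih =>
        intro h v hvU hv h0
        by_cases hz : C.pl a v = 0
        · exact ih ha v hvU hv hz
        · exact ⟨r, hr.irreducible, _, C.pl_mem hUg a hvU, hz, by rw [← pl_mul]; exact h0⟩
    obtain ⟨v, hvU, hv⟩ := Submodule.exists_mem_ne_zero_of_ne_bot hU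
    exact key (minpoly F C.T) (minpoly.ne_zero (Algebra.IsIntegral.isIntegral _)) v hvU hv (by
      show (Polynomial.aeval C.T (minpoly F C.T)) v = 0
      rw [minpoly.aeval, LinearMap.zero_apply])
  let M := p ^ finrank F V
  have hpl : ∀ k, C.pl (p ^ k) = C.pl p ^ k := fun k => map_pow (Polynomial.aeval C.T) p k
  have hM1 : 1 ≤ finrank F V := by
    by_contra h0
    have : finrank F V = 0 := by omega
    rw [Module.finrank_zero_iff] at this
    exact hv₀ (Subsingleton.elim _ _)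
  let Up := U ⊓ LinearMap.ker (C.pl M)
  have hUp : C.GInv Up := fun v hv => ⟨hUg v hv.1, by
    show C.pl M (C.g v) = 0
    rw [← g_pl, show C.pl M v = 0 from hv.2, map_zero]⟩
  have hv₀p : v₀ ∈ Up := ⟨hv₀U, C.pl_of_dvd (dvd_pow_self p (by omega)) hpv₀⟩
  have hUpn : C.Nondeg Up := by
    let f : U →ₗ[F] U := (C.pl M).restrict fun u hu => C.pl_mem hUg M hu
    have hf : ∀ u : U, f (f u) = 0 → f u = 0 := fun u h => Subtype.ext (by
      have h' : C.pl M (C.pl M u) = 0 := congrArg Subtype.val h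
      rw [← pl_mul, ← pow_add] at h'
      show C.pl M u = 0
      have hk := Module.End.ker_pow_eq_ker_pow_finrank_of_le (f := C.pl p)
        (show finrank F V ≤ finrank F V + finrank F V by omega)
      rw [← hpl, ← hpl] at hk
      exact LinearMap.mem_ker.1 (hk ▸ LinearMap.mem_ker.2 h'))
    have hcod : LinearMap.ker f ⊔ LinearMap.range f = ⊤ := by
      have hinf : LinearMap.ker f ⊓ LinearMap.range f = ⊥ := by
        rw [eq_bot_iff]
        rintro _ ⟨hk, u, rfl⟩
        exact hf u hk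
      refine Submodule.eq_top_of_finrank_eq ?_
      have h1 := Submodule.finrank_sup_add_finrank_inf_eq (LinearMap.ker f) (LinearMap.range f)
      rw [hinf, finrank_bot, add_zero] at h1
      have := f.finrank_range_add_finrank_ker
      omega
    intro v hv hall
    refine hUn v hv.1 fun w hw => ?_
    obtain ⟨k, hk, _, ⟨u, rfl⟩, hkw⟩ :=
      Submodule.mem_sup.1 (hcod ▸ Submodule.mem_top (x := (⟨w, hw⟩ : U)))
    have hw' : (k : V) + C.pl M u = w := congrArg Subtype.val hkw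
    rw [← hw', map_add, hall k ⟨k.2, congrArg Subtype.val (LinearMap.mem_ker.1 hk)⟩, zero_add,
      ← pl_adj, show C.pl M v = 0 from hv.2]
    simp
  classical
  have hex : ∃ e, ∀ u ∈ Up, C.pl (p ^ e) u = 0 := ⟨_, fun u hu => hu.2⟩
  set e := Nat.find hex
  have hkill : ∀ u ∈ Up, C.pl (p ^ e) u = 0 := Nat.find_spec hex
  have he : 1 ≤ e := by
    refine Nat.one_le_iff_ne_zero.2 fun h0 => hv₀ ?_
    have := hkill v₀ hv₀p
    simpa [h0] using this
  obtain ⟨x₀, hx₀, hx₀'⟩ : ∃ x ∈ Up, C.pl (p ^ (e - 1)) x ≠ 0 := by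
    have := Nat.find_min hex (show e - 1 < e by omega)
    push Not at this
    exact this
  have hpp : ∀ u ∈ Up, C.pl p (C.pl (p ^ (e - 1)) u) = 0 := fun u hu => by
    rw [← pl_mul, ← pow_succ', Nat.sub_add_cancel he, hkill u hu]
  -- case A
  by_cases hA : ∃ x ∈ Up, ∃ h, C.pl (p ^ (e - 1)) x ≠ 0 ∧
      C.om (C.pl h (C.pl (p ^ (e - 1)) (C.g x))) x ≠ 0
  · obtain ⟨x, hx, h₀, hx', hne⟩ := hA
    obtain ⟨hg, hn, hG⟩ := C.good_piece (W := C.cyc x) (fun u hu => C.T_mem_cyc hu)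
      (C.cyc_isot x) (by
      rintro _ ⟨c, rfl⟩ hall
      by_contra h
      obtain ⟨k, hk⟩ := exists_mul_socle hp he (c := c) fun hd =>
        h (C.pl_of_dvd hd (hkill x hx))
      refine hne (C.eq_zero_comm ?_)
      rw [← C.pl_congr hk (hkill _ (hUp x hx)), ← pl_mul, ← g_pl,
        show h₀ * (k * c) = c * (h₀ * k) by ring, pl_mul, g_pl, ← pl_adj]
      exact hall _ ⟨_, rfl⟩)
    refine ⟨_, ?_, ?_, hg, hn, Or.inl hG⟩
    · refine sup_le ?_ ?_
      · rintro _ ⟨c, rfl⟩; exact C.pl_mem hUg c hx.1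
      · rintro _ ⟨_, ⟨c, rfl⟩, rfl⟩; exact hUg _ (C.pl_mem hUg c hx.1)
    · intro hbot
      have : x ∈ (⊥ : Submodule F V) := hbot ▸ Submodule.mem_sup_left (C.self_mem_cyc x)
      exact hx' (by rw [(Submodule.mem_bot F).1 this, map_zero])
  push Not at hA
  -- case B
  by_cases hB : ∃ x ∈ Up, C.pl (p ^ (e - 1)) x ≠ 0 ∧ C.pl (p ^ (e - 1)) (C.g x) ∉ C.cyc x
  · obtain ⟨x, hx, hx', hnot⟩ := hB
    obtain ⟨φ, hφv, hφc⟩ := Submodule.exists_dual_map_eq_bot_of_notMem hnot inferInstance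
    obtain ⟨b, hb, hbφ⟩ := C.exists_rep hUpn (φ.comp Up.subtype)
    have hbx : ∀ k, C.om (C.pl k x) b = 0 := fun k => by
      rw [hbφ _ (C.pl_mem hUp k hx)]
      exact (Submodule.mem_bot F).1 (hφc ▸ Submodule.mem_map_of_mem ⟨k, rfl⟩)
    have hbg : C.om (C.pl (p ^ (e - 1)) (C.g x)) b ≠ 0 := by
      rw [hbφ _ (C.pl_mem hUp _ (hUp x hx))]
      exact hφv
    obtain ⟨hg, hn, hG⟩ := C.good_piece (W := C.cyc x ⊔ C.cyc b) (fun u hu => C.T_mem_cyc_sup hu)
      (C.isot_sup (C.cyc_isot x) (C.cyc_isot b) (C.orth_cyc hbx)) (by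
      intro u hu hall
      obtain ⟨c, d, rfl⟩ := C.mem_cyc_sup hu
      have key : ∀ j ≤ e, p ^ j ∣ c ∧ p ^ j ∣ d := by
        intro j
        induction j with
        | zero => simp
        | succ j ih =>
          intro hj
          obtain ⟨⟨c₁, rfl⟩, ⟨d₁, rfl⟩⟩ := ih (by omega)
          have test : ∀ k w, w ∈ C.cyc x ⊔ C.cyc b →
              C.om (C.pl (k * c₁) (C.pl (p ^ (e - 1)) x)) (C.g w) +
                C.om (C.pl (k * d₁) (C.pl (p ^ (e - 1)) b)) (C.g w) = 0 := by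
            intro k w hw
            have := hall (C.pl (p ^ (e - 1 - j) * k) w) (by
              obtain ⟨c', d', rfl⟩ := C.mem_cyc_sup hw
              rw [map_add, ← pl_mul, ← pl_mul]
              exact Submodule.add_mem_sup ⟨_, rfl⟩ ⟨_, rfl⟩)
            rw [g_pl, ← pl_adj, map_add, map_add, LinearMap.add_apply, ← pl_mul, ← pl_mul] at this
            rw [← pl_mul, ← pl_mul]
            have e1 : p ^ (e - 1) = p ^ (e - 1 - j) * p ^ j := by rw [← pow_add]; congr 1; omega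
            rw [e1]
            convert this using 6 <;> ring
          have hd₁ : p ∣ d₁ := by
            by_contra hnd
            obtain ⟨k, hk⟩ := exists_mul_socle hp le_rfl (c := d₁) (by rwa [pow_one])
            rw [Nat.sub_self, pow_zero, pow_one] at hk
            have t := test k x (Submodule.mem_sup_left (C.self_mem_cyc x))
            rw [C.pl_congr hk (hpp b hb), pl_one] at t
            have z : C.om (C.pl (k * c₁) (C.pl (p ^ (e - 1)) x)) (C.g x) = 0 := by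
              rw [← pl_mul, pl_adj, pl_mul]
              exact C.eq_zero_comm (hA x hx _ hx')
            rw [z, zero_add, pl_adj] at t
            exact hbg (C.eq_zero_comm t)
          have hc₁ : p ∣ c₁ := by
            by_contra hnd
            obtain ⟨k, hk⟩ := exists_mul_socle hp le_rfl (c := c₁) (by rwa [pow_one])
            rw [Nat.sub_self, pow_zero, pow_one] at hk
            have t := test k b (Submodule.mem_sup_right (C.self_mem_cyc b))
            rw [C.pl_congr hk (hpp x hx), pl_one, C.pl_of_dvd (dvd_mul_of_dvd_right hd₁ k) (hpp b hb)]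
              at t
            apply hbg
            simp only [map_zero, LinearMap.zero_apply, add_zero] at t
            rw [← C.om_symm_left, C.symm_eq, map_sub, LinearMap.sub_apply, ← pl_X, ← pl_mul, hbx,
              zero_sub, neg_eq_zero, g_pl] at t
            exact t
          exact ⟨by rw [pow_succ]; exact mul_dvd_mul_left _ hc₁,
            by rw [pow_succ]; exact mul_dvd_mul_left _ hd₁⟩
      rw [C.pl_of_dvd (key e le_rfl).1 (hkill x hx), C.pl_of_dvd (key e le_rfl).2 (hkill b hb),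
        add_zero])
    refine ⟨_, ?_, ?_, hg, hn, Or.inl hG⟩
    · have hW : C.cyc x ⊔ C.cyc b ≤ U := sup_le
        (by rintro _ ⟨c, rfl⟩; exact C.pl_mem hUg c hx.1)
        (by rintro _ ⟨c, rfl⟩; exact C.pl_mem hUg c hb.1)
      refine sup_le hW ?_
      rintro _ ⟨w, hw, rfl⟩; exact hUg _ (hW hw)
    · intro hbot
      have : x ∈ (⊥ : Submodule F V) :=
        hbot ▸ Submodule.mem_sup_left (Submodule.mem_sup_left (C.self_mem_cyc x))
      exact hx' (by rw [(Submodule.mem_bot F).1 this, map_zero])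
  push Not at hB
  -- case C
  have hsc : ∀ x ∈ Up, C.pl (p ^ (e - 1)) x ≠ 0 →
      ∃ c, C.pl (p ^ (e - 1)) (C.g x) = C.pl c (C.pl (p ^ (e - 1)) x) := by
    intro x hx hx'
    obtain ⟨a, ha⟩ := hB x hx hx'
    have h0 : C.pl (p * a) x = 0 := by rw [pl_mul, ← ha, hpp _ (hUp x hx)]
    have hd := C.pow_dvd_of_pl_eq_zero hp he (hkill x hx) hx' h0
    rw [← Nat.sub_add_cancel he, pow_succ'] at hd
    obtain ⟨c, rfl⟩ := (mul_dvd_mul_iff_left hp.ne_zero).1 hd
    exact ⟨c, by rw [ha, ← pl_mul, mul_comm]⟩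
  obtain ⟨y₀, hy₀, hxy₀⟩ : ∃ y ∈ Up, C.om (C.pl (p ^ (e - 1)) x₀) y ≠ 0 := by
    by_contra hno
    push Not at hno
    exact hx₀' (hUpn _ (C.pl_mem hUp _ hx₀) hno)
  have hy₀' : C.pl (p ^ (e - 1)) y₀ ≠ 0 := fun h0 => hxy₀ (by rw [pl_adj, h0, map_zero])
  have hz₀' : C.pl (p ^ (e - 1)) (x₀ + y₀) ≠ 0 := fun h0 => hxy₀ (by
    rw [map_add, add_eq_zero_iff_eq_neg'] at h0
    rw [pl_adj, h0, map_neg, pl_alt', neg_zero])
  obtain ⟨c, hc⟩ := hsc x₀ hx₀ hx₀'
  obtain ⟨c', hc'⟩ := hsc y₀ hy₀ hy₀'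
  obtain ⟨c'', hc''⟩ := hsc _ (Up.add_mem hx₀ hy₀) hz₀'
  have pair : ∀ k, C.pl k (C.pl (p ^ (e - 1)) x₀) = C.pl k (C.pl (p ^ (e - 1)) x₀) →
      (∀ h, C.om (C.pl (h * k) (C.pl (p ^ (e - 1)) x₀)) y₀ = 0) → p ∣ k := by
    intro k _ hall
    by_contra hnd
    obtain ⟨h, hh⟩ := exists_mul_socle hp le_rfl (c := k) (by rwa [pow_one])
    rw [Nat.sub_self, pow_zero, pow_one] at hh
    have := hall h
    rw [C.pl_congr hh (hpp x₀ hx₀), pl_one] at this
    exact hxy₀ this
  have hcc : p ∣ c' - c := by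
    have e0 : C.pl (c - c'') (C.pl (p ^ (e - 1)) x₀) =
        C.pl (c'' - c') (C.pl (p ^ (e - 1)) y₀) := by
      rw [map_add, map_add, map_add, map_add, hc, hc'] at hc''
      rw [pl_sub, pl_sub, sub_eq_sub_iff_add_eq_add, hc'']
      abel
    have h1 : p ∣ c - c'' := pair _ rfl fun h => by
      rw [pl_mul, e0, ← pl_mul, ← pl_mul, pl_alt]
    have h2 : p ∣ c'' - c' := pair _ rfl fun h => by
      have : C.pl (c'' - c') (C.pl (p ^ (e - 1)) y₀) = 0 := by
        rw [← e0]; exact C.pl_of_dvd h1 (hpp x₀ hx₀)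
      rw [← pl_mul, pl_adj, mul_assoc, pl_mul, pl_mul, this, map_zero, map_zero]
    rw [show c' - c = -((c - c'') + (c'' - c')) by ring, dvd_neg]
    exact dvd_add h1 h2
  rw [C.pl_congr hcc (hpp y₀ hy₀)] at hc'
  have hq : p ∣ c * c - Polynomial.X * c + 1 := by
    refine pair _ rfl fun h => ?_
    have e1 : C.pl (p ^ (e - 1)) (C.g (C.g x₀)) = C.pl (c * c) (C.pl (p ^ (e - 1)) x₀) := by
      rw [← g_pl, hc, g_pl, g_pl, hc, ← pl_mul]
    rw [g_g, map_sub, ← pl_X, pl_comm, hc, ← pl_mul] at e1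
    have : C.pl (c * c - Polynomial.X * c + 1) (C.pl (p ^ (e - 1)) x₀) = 0 := by
      rw [pl_add, pl_sub, pl_one, ← e1]; abel
    rw [pl_mul, this]; simp
  have hs : p ∣ c * c - 1 := by
    refine pair _ rfl fun h => ?_
    have e1 : C.om (C.pl (c * h) (C.pl (p ^ (e - 1)) x₀)) (C.g y₀) =
        C.om (C.pl h (C.pl (p ^ (e - 1)) x₀)) y₀ := by
      rw [← C.iso (C.pl h _) y₀, g_pl, g_pl, hc, ← C.pl_mul h c, mul_comm h]
    rw [← pl_mul, pl_adj, pl_mul, hc', ← pl_mul, ← pl_mul, ← pl_adj] at e1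
    rw [mul_sub, mul_one, pl_sub, map_sub, LinearMap.sub_apply, sub_eq_zero, ← e1, ← pl_mul]
    ring_nf
  rw [show c * c - 1 = (c - 1) * (c + 1) by ring] at hs
  obtain ⟨ε, hε, hcε, hε1⟩ : ∃ ε : F, ε * ε = 1 ∧ p ∣ c - Polynomial.C ε ∧
      (ε = 1 ∨ ε = -1 ∧ (2 : F) ≠ 0) := by
    by_cases h1 : p ∣ c - 1
    · exact ⟨1, one_mul 1, by simpa using h1, Or.inl rfl⟩
    · have h2 := (hp.prime.dvd_or_dvd hs).resolve_left h1
      refine ⟨-1, by ring, by simpa using h2, Or.inr ⟨rfl, fun h0 => h1 ?_⟩⟩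
      have h0' : (2 : F[X]) = 0 := by rw [← map_ofNat Polynomial.C 2, h0, map_zero]
      rwa [show c - 1 = c + 1 by linear_combination -h0']
  have hpε : p ∣ Polynomial.X - Polynomial.C (2 * ε) := by
    obtain ⟨k, hk⟩ := hcε
    obtain ⟨l, hl⟩ := hq
    have hεC : Polynomial.C ε * Polynomial.C ε = (1 : F[X]) := by rw [← map_mul, hε, map_one]
    refine ⟨Polynomial.C ε * ((c + Polynomial.C ε - Polynomial.X) * k - l), ?_⟩
    rw [map_mul, map_ofNat Polynomial.C 2]
    linear_combination (Polynomial.C ε * (c + Polynomial.C ε - Polynomial.X)) * hk -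
      Polynomial.C ε * hl + (Polynomial.C ε - Polynomial.X) * hεC
  have hass : Associated p (Polynomial.X - Polynomial.C (2 * ε)) :=
    hp.associated_of_dvd (irreducible_X_sub_C _) hpε
  have hx₁ : C.pl (p ^ (e - 1)) (C.g x₀) = ε • C.pl (p ^ (e - 1)) x₀ := by
    rw [hc, C.pl_congr hcε (hpp x₀ hx₀), pl_C]
  have hy₁ : C.pl (p ^ (e - 1)) (C.g y₀) = ε • C.pl (p ^ (e - 1)) y₀ := by
    rw [hc', C.pl_congr hcε (hpp y₀ hy₀), pl_C]
  have hzero : ∀ k v, C.pl (p ^ k) v = 0 →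
      C.pl ((Polynomial.X - Polynomial.C (2 * ε)) ^ k) v = 0 := fun k v hv =>
    C.pl_of_dvd (hass.pow_pow (n := k)).dvd hv
  have hne : C.om (C.pl ((Polynomial.X - Polynomial.C (2 * ε)) ^ (e - 1)) x₀) y₀ ≠ 0 := by
    obtain ⟨u, hu⟩ := hass.pow_pow (n := e - 1)
    obtain ⟨r, hr, hru⟩ := Polynomial.isUnit_iff.1 u.isUnit
    rw [← hu, ← hru, mul_comm, pl_mul, pl_C, map_smul, LinearMap.smul_apply]
    exact smul_ne_zero hr.ne_zero hxy₀
  rcases hε1 with rfl | ⟨rfl, h2⟩
  · rw [mul_one] at hzero hne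
    change ∀ k v, C.pl (p ^ k) v = 0 → C.pl (dPol ^ k) v = 0 at hzero
    change C.om (C.pl (dPol ^ (e - 1)) x₀) y₀ ≠ 0 at hne
    set t := C.om (C.pl (dPol ^ (e - 1)) x₀) y₀ with ht
    have hP : C.UPair e x₀ (t⁻¹ • y₀) := by
      refine ⟨he, hzero e _ (hkill _ hx₀), ?_, hzero _ _ ?_, hzero _ _ ?_, ?_⟩
      · rw [map_smul, hzero e _ (hkill _ hy₀), smul_zero]
      · rw [N_apply, map_sub, hx₁, one_smul, sub_self]
      · rw [N_apply, map_sub, map_smul C.g, map_smul, map_smul, hy₁, one_smul, sub_self]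
      · rw [map_smul, smul_eq_mul, ← ht, inv_mul_cancel₀ hne]
    obtain ⟨P, hg, hn, hG, hxP, hyP, hmin⟩ := hP.piece
    refine ⟨P, hmin U hUg hx₀.1 (U.smul_mem _ hy₀.1), ?_, hg, hn, Or.inl hG⟩
    intro hbot
    exact hx₀' (by rw [(Submodule.mem_bot F).1 (show x₀ ∈ (⊥ : Submodule F V) from hbot ▸ hxP), map_zero])
  · rw [mul_neg, mul_one, map_neg, sub_neg_eq_add] at hzero hne
    have hzero' : ∀ k v, C.pl (p ^ k) v = 0 → C.negC.pl (dPol ^ k) v = 0 := fun k v hv => by
      rw [negC_pl_pow, hzero k v hv, smul_zero]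
    have hne' : C.om (C.negC.pl (dPol ^ (e - 1)) x₀) y₀ ≠ 0 := by
      rw [negC_pl_pow, map_smul, LinearMap.smul_apply]
      exact smul_ne_zero (pow_ne_zero _ (neg_ne_zero.2 one_ne_zero)) hne
    set t := C.om (C.negC.pl (dPol ^ (e - 1)) x₀) y₀ with ht
    have hP : C.negC.UPair e x₀ (t⁻¹ • y₀) := by
      refine ⟨he, hzero' e _ (hkill _ hx₀), ?_, hzero' _ _ ?_, hzero' _ _ ?_, ?_⟩
      · rw [map_smul, hzero' e _ (hkill _ hy₀), smul_zero]
      · rw [N_apply, negC_g, map_sub, map_neg, hx₁, neg_one_smul, neg_neg, sub_self]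
      · rw [N_apply, negC_g, map_sub, map_neg, map_smul C.g, map_smul, map_smul, hy₁,
          neg_one_smul, smul_neg, neg_neg, sub_self]
      · show C.om _ (t⁻¹ • y₀) = 1
        rw [map_smul, smul_eq_mul, ← ht, inv_mul_cancel₀ hne']
    obtain ⟨P, hPU, hxP, hbad⟩ := C.isBad_of_negC h2 hP hUg hx₀.1 (U.smul_mem _ hy₀.1)
    refine ⟨P, hPU, ?_, hbad.1, hbad.2.1, Or.inr hbad⟩
    intro hbot
    exact hx₀' (by rw [(Submodule.mem_bot F).1 (show x₀ ∈ (⊥ : Submodule F V) from hbot ▸ hxP), map_zero])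

/-- Orthogonal sums of bad pieces. -/
inductive BadSum (C : Ctx F V) : Submodule F V → Prop
  | bot : BadSum C ⊥
  | sup {P B : Submodule F V} : C.IsBad P → BadSum C B → C.Orth P B → BadSum C (P ⊔ B)

theorem BadSum.props {B : Submodule F V} (h : BadSum C B) :
    C.GInv B ∧ C.Nondeg B ∧ C.Com B := by
  induction h with
  | bot => exact ⟨fun u hu => by simp [(Submodule.mem_bot F).1 hu],
      fun u hu _ => (Submodule.mem_bot F).1 hu, C.com_bot⟩
  | sup hP _ ho ih =>
    exact ⟨C.gInv_sup hP.1 ih.1, C.nondeg_sup hP.2.1 ih.2.1 ho,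
      hP.2.2.1.sup C ih.2.2 hP.2.1 ih.2.1 ho⟩

/-- The decomposition. -/
theorem exists_decomp [Finite F] (U : Submodule F V) (hn : C.Nondeg U) (hg : C.GInv U) :
    ∃ G B : Submodule F V, G ⊔ B = U ∧ C.Orth G B ∧ C.GInv G ∧ C.Nondeg G ∧ C.Good G ∧
      BadSum C B := by
  induction hd : finrank F U using Nat.strong_induction_on generalizing U with
  | _ d ih =>
  by_cases hU : U = ⊥
  · subst hU
    exact ⟨⊥, ⊥, sup_bot_eq _, fun a ha b _ => by simp [(Submodule.mem_bot F).1 ha], hg, hn,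
      C.good_bot, BadSum.bot⟩
  obtain ⟨P, hPU, hP0, hPg, hPn, hP⟩ := C.exists_piece hn hg hU
  set U' := U ⊓ C.perp P
  have hU'n : C.Nondeg U' := C.nondeg_inter_perp hPn hn hPU
  have hU'g : C.GInv U' := C.gInv_inter_perp hPg hg
  have ho : C.Orth P U' := fun a ha b hb => hb.2 a ha
  have hsup : P ⊔ U' = U := C.sup_inter_perp hPn hPU
  have hlt : finrank F U' < d := by
    have h1 := C.finrank_sup_orth hPn ho
    rw [hsup, hd] at h1
    have : 0 < finrank F P := Nat.pos_of_ne_zero fun h0 => hP0 (Submodule.finrank_eq_zero.1 h0)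
    omega
  obtain ⟨G, B, hGB, hoGB, hGg, hGn, hG, hB⟩ := ih _ hlt U' hU'n hU'g rfl
  have hGU : G ≤ U' := hGB ▸ le_sup_left
  have hBU : B ≤ U' := hGB ▸ le_sup_right
  rcases hP with hPG | hPB
  · refine ⟨P ⊔ G, B, by rw [sup_assoc, hGB, hsup], ?_, C.gInv_sup hPg hGg,
      C.nondeg_sup hPn hGn fun a ha b hb => ho a ha b (hGU hb),
      hPG.sup C hG hPn hPg hGg fun a ha b hb => ho a ha b (hGU hb), hB⟩
    intro u hu b hb
    obtain ⟨a, ha, g, hg', rfl⟩ := Submodule.mem_sup.1 hu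
    simp [ho a ha b (hBU hb), hoGB g hg' b hb]
  · refine ⟨G, P ⊔ B, by rw [sup_left_comm, hGB, hsup], ?_, hGg, hGn, hG,
      BadSum.sup hPB hB fun a ha b hb => ho a ha b (hBU hb)⟩
    intro g hg' u hu
    obtain ⟨a, ha, b, hb, rfl⟩ := Submodule.mem_sup.1 hu
    simp [C.eq_zero_comm (ho a ha g (hGU hg')), hoGB g hg' b hb]

end Ctx

end Cfsg.Agent.Ore54
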