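import Cfsg.Agent.Ore54.Levi

/-!
The elements `(1 s; r 1 + r s) ⊕ -1` of `Sp(4,3)` are commutators.
-/

set_option autoImplicit false

namespace Cfsg.Agent.Ore54

open Matrix

/-- The test elements. -/
def smallM {R : Type*} [CommRing R] (r s : R) : Matrix (Fin 2 ⊕ Fin 2) (Fin 2 ⊕ Fin 2) R :=
  fromBlocks !![1, 0; 0, -1] !![s, 0; 0, 0] !![r, 0; 0, 0] !![1 + r * s, 0; 0, -1]

/-- A commutator certificate. -/
def SmallCert (r s : ZMod 3) (a b : Matrix (Fin 2 ⊕ Fin 2) (Fin 2 ⊕ Fin 2) (ZMod 3)) : Prop :=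
  a * J (Fin 2) (ZMod 3) * aᵀ = J (Fin 2) (ZMod 3) ∧
    b * J (Fin 2) (ZMod 3) * bᵀ = J (Fin 2) (ZMod 3) ∧ smallM r s * (b * a) = a * b

set_option maxRecDepth 100000 in
theorem small_0_0 : SmallCert 0 0
    (fromBlocks !![0, 1; 1, 0] !![1, 0; 2, 1] !![1, 2; 0, 1] !![1, 2; 2, 0])
    (fromBlocks !![2, 1; 0, 2] !![1, 1; 2, 1] !![2, 0; 2, 0] !![2, 2; 2, 1]) := by
  unfold SmallCert; decide +kernel

theorem small_0_1 : SmallCert 0 1
    (fromBlocks !![1, 0; 0, 2] !![0, 2; 1, 2] !![0, 2; 1, 0] !![2, 2; 0, 1])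
    (fromBlocks !![0, 1; 1, 0] !![0, 1; 1, 0] !![0, 1; 0, 0] !![0, 2; 1, 0]) := by
  unfold SmallCert; decide +kernel

theorem small_0_2 : SmallCert 0 2
    (fromBlocks !![0, 1; 2, 2] !![0, 2; 1, 1] !![0, 2; 2, 2] !![2, 2; 0, 1])
    (fromBlocks !![1, 1; 0, 0] !![2, 0; 2, 1] !![0, 0; 2, 1] !![2, 2; 1, 0]) := by
  unfold SmallCert; decide +kernel

theorem small_1_0 : SmallCert 1 0
    (fromBlocks !![1, 0; 0, 0] !![0, 0; 0, 2] !![0, 0; 1, 1] !![1, 2; 0, 0])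
    (fromBlocks !![2, 0; 2, 2] !![0, 0; 0, 2] !![0, 2; 1, 2] !![2, 0; 0, 1]) := by
  unfold SmallCert; decide +kernel

theorem small_1_1 : SmallCert 1 1
    (fromBlocks !![1, 1; 0, 2] !![0, 1; 2, 0] !![0, 2; 1, 0] !![0, 0; 0, 0])
    (fromBlocks !![0, 0; 0, 0] !![2, 0; 0, 1] !![1, 0; 0, 2] !![0, 2; 1, 0]) := by
  unfold SmallCert; decide +kernel

theorem small_1_2 : SmallCert 1 2
    (fromBlocks !![1, 1; 1, 2] !![2, 1; 0, 1] !![0, 2; 0, 1] !![1, 2; 0, 1])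
    (fromBlocks !![2, 2; 2, 0] !![0, 0; 0, 0] !![1, 2; 1, 2] !![0, 2; 2, 1]) := by
  unfold SmallCert; decide +kernel

theorem small_2_0 : SmallCert 2 0
    (fromBlocks !![0, 0; 2, 1] !![1, 1; 1, 2] !![1, 1; 2, 1] !![1, 1; 2, 1])
    (fromBlocks !![2, 2; 1, 2] !![1, 0; 0, 2] !![2, 1; 0, 2] !![1, 2; 1, 2]) := by
  unfold SmallCert; decide +kernel

theorem small_2_1 : SmallCert 2 1
    (fromBlocks !![1, 0; 2, 2] !![0, 2; 1, 0] !![2, 2; 1, 0] !![2, 2; 0, 1])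
    (fromBlocks !![0, 1; 2, 0] !![1, 0; 0, 2] !![1, 1; 1, 2] !![1, 2; 1, 1]) := by
  unfold SmallCert; decide +kernel

theorem small_2_2 : SmallCert 2 2
    (fromBlocks !![1, 0; 1, 2] !![1, 0; 1, 1] !![0, 2; 1, 0] !![1, 2; 1, 2])
    (fromBlocks !![2, 0; 1, 0] !![1, 1; 2, 1] !![0, 1; 0, 1] !![1, 0; 2, 0]) := by
  unfold SmallCert; decide +kernel

theorem exists_smallCert (r s : ZMod 3) : ∃ a b, SmallCert r s a b := by
  fin_cases r <;> fin_cases s <;>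
    first
    | exact ⟨_, _, small_0_0⟩
    | exact ⟨_, _, small_0_1⟩
    | exact ⟨_, _, small_0_2⟩
    | exact ⟨_, _, small_1_0⟩
    | exact ⟨_, _, small_1_1⟩
    | exact ⟨_, _, small_1_2⟩
    | exact ⟨_, _, small_2_0⟩
    | exact ⟨_, _, small_2_1⟩
    | exact ⟨_, _, small_2_2⟩

theorem small_comm {F : Type*} [Field F] [Fintype F] (h : Fintype.card F = 3) (r s : F)
    (M : SpG (Fin 2) F) (hM : M.1 = smallM r s) : ∃ a b : SpG (Fin 2) F, M = a * b * a⁻¹ * b⁻¹ := by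
  have : Fact (Nat.Prime 3) := ⟨Nat.prime_three⟩
  have : CharP F 3 := charP_of_card_eq_prime h
  let e : ZMod 3 →+* F := ZMod.castHom dvd_rfl F
  have hbij : Function.Bijective e := (Fintype.bijective_iff_injective_and_card _).2
    ⟨e.injective, by simp [h]⟩
  obtain ⟨r, rfl⟩ := hbij.2 r
  obtain ⟨s, rfl⟩ := hbij.2 s
  obtain ⟨a, b, ha, hb, hab⟩ := exists_smallCert r s
  have hJ : (J (Fin 2) (ZMod 3)).map e = J (Fin 2) F := by
    simp [J, fromBlocks_map, Matrix.map_neg]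
  have mem : ∀ {x : Matrix (Fin 2 ⊕ Fin 2) (Fin 2 ⊕ Fin 2) (ZMod 3)},
      x * J (Fin 2) (ZMod 3) * xᵀ = J (Fin 2) (ZMod 3) → x.map e ∈ symplecticGroup (Fin 2) F := by
    intro x hx
    rw [SymplecticGroup.mem_iff, ← hJ, ← transpose_map, ← Matrix.map_mul, ← Matrix.map_mul, hx]
  have hs : (smallM r s).map e = smallM (e r) (e s) := by
    ext i j
    rcases i with i | i <;> rcases j with j | j <;> fin_cases i <;> fin_cases j <;> simp [smallM]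
  refine ⟨⟨_, mem ha⟩, ⟨_, mem hb⟩, ?_⟩
  rw [eq_mul_inv_iff_mul_eq, eq_mul_inv_iff_mul_eq, mul_assoc]
  refine spG_ext ?_
  simp only [Submonoid.coe_mul, hM, ← hs, ← Matrix.map_mul]
  rw [hab]

end Cfsg.Agent.Ore54
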