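import Cfsg.Agent.Ore54.Frame
import Cfsg.Agent.Ore54.DData
import Cfsg.Agent.Ore54.Peel
import Cfsg.Agent.Ore54.Small

/-!
Every isometry of a symplectic space over a finite field is a commutator, apart from the small
exceptions.
-/

set_option autoImplicit false

namespace Cfsg.Agent.Ore54

open Module

namespace Ctx

variable {F V : Type*} [Field F] [AddCommGroup V] [Module F V] [FiniteDimensional F V]

variable (C : Ctx F V)

theorem com_of_fix {U : Submodule F V} (h : ∀ u ∈ U, C.g u = u) : C.Com U :=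
  ⟨1, 1, one_mem _, one_mem _, fun _ _ => rfl, fun _ _ => rfl, fun u hu => by simp [h u hu]⟩

theorem good_of_negC_good_two (h2 : (2 : F) = 0) {U : Submodule F V} (h : C.negC.Good U) :
    C.Good U := by
  have hneg : ∀ v : V, -v = v := fun v => by
    rw [neg_eq_iff_add_eq_zero, ← two_smul F v, h2, zero_smul]
  obtain ⟨W, hW, hWi, hWd, hWT, hWf⟩ := h
  exact ⟨W, hW, hWi, hWd, fun u hu v hv => by
      have := hWT u hu v hv
      rw [negC_T, hneg] at this
      exact this,
    fun u hu hg => by simpa [hneg] using hWf u hu (by simpa [hneg] using hg)⟩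

theorem BadSum.good_two (h2 : (2 : F) = 0) {B : Submodule F V} (h : BadSum C B) : C.Good B := by
  induction h with
  | bot => exact C.good_bot
  | sup hP hB ho ih =>
    exact (C.good_of_negC_good_two h2 hP.2.2.2.1).sup C ih hP.2.1 hP.1 (BadSum.props C hB).1 ho

theorem negC_good_plane {G : Submodule F V} (hd : finrank F G = 2) {u : V} (hu : u ∈ G)
    (hne : ∀ c : F, C.g u ≠ c • u) : C.negC.Good G := by
  have hu0 : u ≠ 0 := fun h => hne 0 (by simp [h])
  refine ⟨Submodule.span F {u}, (Submodule.span_singleton_le_iff_mem _ _).2 hu, ?_, ?_, ?_, ?_⟩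
  · intro a ha b hb
    obtain ⟨c, rfl⟩ := Submodule.mem_span_singleton.1 ha
    obtain ⟨c', rfl⟩ := Submodule.mem_span_singleton.1 hb
    show C.om _ _ = 0
    simp [C.alt]
  · rw [finrank_span_singleton hu0, hd]
  · intro a ha b hb
    obtain ⟨c, rfl⟩ := Submodule.mem_span_singleton.1 ha
    obtain ⟨c', rfl⟩ := Submodule.mem_span_singleton.1 hb
    show C.om _ _ = 0
    simp [negC_T, C.om_T_self]
  · intro a ha hg
    obtain ⟨c, rfl⟩ := Submodule.mem_span_singleton.1 ha
    obtain ⟨c', hc'⟩ := Submodule.mem_span_singleton.1 hg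
    by_cases hc : c = 0
    · simp [hc]
    refine absurd ?_ (hne (-(c⁻¹ * c')))
    rw [negC_g, map_smul] at hc'
    rw [neg_smul, mul_smul, hc', smul_neg, smul_smul, inv_mul_cancel₀ hc, one_smul, neg_neg]

theorem com_small [Fintype F] (hq : Fintype.card F = 3) {G P : Submodule F V} (hGn : C.Nondeg G)
    (hGg : C.GInv G) (hG : C.Good G) (hGd : finrank F G = 2) (hPn : C.Nondeg P) (hPg : C.GInv P)
    (hP : C.negC.Good P) (hPd : finrank F P = 2) (hP1 : ∀ u ∈ P, C.g u = -u) (ho : C.Orth G P) :
    C.Com (G ⊔ P) := by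
  obtain ⟨k, hk, A, hA⟩ := C.exists_frame_of_good hGn hGg hG
  obtain rfl : k = 1 := by omega
  obtain ⟨k', hk', B, -⟩ := C.negC.exists_frame_of_good hPn (C.negC_gInv hPg) hP
  obtain rfl : k' = 1 := by omega
  change C.Frame P (Fin 1) at B
  have hfA : C.om (A.f 0) (A.e 0) = 1 := by simp [A.fe]
  have hfB : C.om (B.f 0) (B.e 0) = 1 := by simp [B.fe]
  have hA' : C.om (A.f 0) (C.g (A.e 0)) = 1 := by simp [hA]
  obtain ⟨v, hv⟩ := A.exists_emb_eq (hGg _ (A.e_mem 0))
  obtain ⟨w, hw⟩ := A.exists_emb_eq (hGg _ (A.f_mem 0))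
  have hv0 : v (.inl 0) = 1 := by rw [← A.om_f_emb 0 v, hv, hA']
  simp only [SForm.Frame.emb_apply, Fin.sum_univ_one, hv0, one_smul] at hv hw
  set r := v (.inr 0)
  set s := w (.inl 0)
  have hw1 : w (.inr 0) = 1 + r * s := by
    have h := C.iso (A.f 0) (A.e 0)
    rw [← hv, ← hw, hfA] at h
    simp only [map_add, map_smul, LinearMap.add_apply, LinearMap.smul_apply, smul_eq_mul, A.ee,
      A.ff, C.skew (A.e 0) (A.f 0), hfA] at h
    linear_combination h
  rw [hw1] at hw
  let Fr : C.Frame (G ⊔ P) (Fin 2) :=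
    { e := ![A.e 0, B.e 0]
      f := ![A.f 0, B.f 0]
      e_mem := Fin.forall_fin_two.2
        ⟨Submodule.mem_sup_left (A.e_mem 0), Submodule.mem_sup_right (B.e_mem 0)⟩
      f_mem := Fin.forall_fin_two.2
        ⟨Submodule.mem_sup_left (A.f_mem 0), Submodule.mem_sup_right (B.f_mem 0)⟩
      ee := by
        simp [Fin.forall_fin_two, A.ee, B.ee, ho _ (A.e_mem 0) _ (B.e_mem 0),
          C.eq_zero_comm (ho _ (A.e_mem 0) _ (B.e_mem 0))]
      ff := by
        simp [Fin.forall_fin_two, A.ff, B.ff, ho _ (A.f_mem 0) _ (B.f_mem 0),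
          C.eq_zero_comm (ho _ (A.f_mem 0) _ (B.f_mem 0))]
      fe := by
        simp [Fin.forall_fin_two, hfA, hfB, ho _ (A.f_mem 0) _ (B.e_mem 0),
          C.eq_zero_comm (ho _ (A.e_mem 0) _ (B.f_mem 0))]
      card := by rw [C.finrank_sup_orth hGn ho, hGd, hPd]; simp }
  have hU : C.Nondeg (G ⊔ P) := C.nondeg_sup hGn hPn ho
  obtain ⟨M, hM⟩ := C.exists_matrix Fr (C.gInv_sup hGg hPg)
  have key : M.1 = smallM r s := by
    refine Matrix.ext_of_mulVec_single fun j => Fr.emb_inj ?_
    rw [← hM, SForm.Frame.emb_apply, SForm.Frame.emb_apply]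
    have eA := hP1 _ (B.e_mem 0)
    have fA := hP1 _ (B.f_mem 0)
    rcases j with j | j <;> fin_cases j
    · simp [Fr, smallM, Fin.sum_univ_two, Pi.single_apply]; exact hv.symm
    · simp [Fr, smallM, Fin.sum_univ_two, Pi.single_apply]; exact eA
    · simp [Fr, smallM, Fin.sum_univ_two, Pi.single_apply]; exact hw.symm
    · simp [Fr, smallM, Fin.sum_univ_two, Pi.single_apply]; exact fA
  obtain ⟨a, b, h⟩ := small_comm hq r s M key
  exact C.com_of_spG Fr hU M a b hM h

theorem com_top [Fintype F] (m : ℕ) (hm : 1 ≤ m) (hV : finrank F V = 2 * m)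
    (h1 : m = 1 → 4 ≤ Fintype.card F) (h2 : m = 2 → 3 ≤ Fintype.card F) : C.Com ⊤ := by
  obtain ⟨G, B, hGB, ho, hGg, hGn, hG, hB⟩ :=
    C.exists_decomp ⊤ C.nondeg_top (fun _ _ => trivial)
  obtain ⟨hBg, hBn, hBc⟩ := BadSum.props C hB
  have hdim : finrank F G + finrank F B = 2 * m := by
    rw [← C.finrank_sup_orth hGn ho, hGB, finrank_top, hV]
  have hq : 2 ≤ Nat.card F := Finite.one_lt_card
  have hqc : Nat.card F = Fintype.card F := Nat.card_eq_fintype_card
  rcases (show Nat.card F = 2 ∨ Nat.card F = 3 ∨ 4 ≤ Nat.card F by omega) with q2 | q3 | q4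
  · have h20 : (2 : F) = 0 := by
      have := FiniteField.cast_card_eq_zero F
      rw [← hqc, q2] at this
      exact_mod_cast this
    have hm3 : 3 ≤ m := by omega
    have hgood := hG.sup C (BadSum.good_two C h20 hB) hGn hGg hBg ho
    rw [hGB] at hgood
    refine C.com_of_good C.nondeg_top (fun _ _ => trivial) hgood fun k hk => exists_regL fun _ => ?_
    rw [finrank_top, hV] at hk
    have : 2 ^ 2 ≤ 2 ^ (k - 1) := Nat.pow_le_pow_right two_pos (by omega)
    rw [q2]
    omega
  · by_cases hG2 : finrank F G = 2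
    · by_cases hid : ∀ u ∈ G, C.g u = u
      · exact hGB ▸ (C.com_of_fix hid).sup C hBc hGn hBn ho
      rcases hB with - | ⟨hP, hB', hoP⟩
      · rw [finrank_bot] at hdim; omega
      rename_i P B'
      obtain ⟨hPg, hPn, -, hPG, e, he, hPd, hPe⟩ := hP
      obtain ⟨hB'g, hB'n, hB'c⟩ := BadSum.props C hB'
      have hoGP : C.Orth G P := fun a ha b hb => ho a ha b (Submodule.mem_sup_left hb)
      have hcom : C.Com (G ⊔ P) := by
        rcases eq_or_lt_of_le he with rfl | he2
        · exact C.com_small (hqc ▸ q3) hGn hGg hG hG2 hPn hPg hPG hPd (hPe rfl) hoGP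
        obtain ⟨u, hu, hne⟩ : ∃ u ∈ G, ∀ c : F, C.g u ≠ c • u := by
          by_contra hno
          push Not at hno
          obtain ⟨W, hW, -, hWd, -, hWf⟩ := hG
          obtain ⟨w, hw, hw0⟩ := Submodule.exists_mem_ne_zero_of_ne_bot
            (p := W) (fun h0 => by rw [h0, finrank_bot] at hWd; omega)
          have hgw : C.g w = w := hWf w hw (by
            obtain ⟨c, hc⟩ := hno w (hW hw)
            rw [hc]; exact W.smul_mem c hw)
          apply hid
          intro v hv
          obtain ⟨cv, hcv⟩ := hno v hv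
          obtain ⟨cs, hcs⟩ := hno _ (G.add_mem hv (hW hw))
          rw [map_add, hgw, hcv] at hcs
          have h0 : (cv - cs) • v + (1 - cs) • w = 0 := by
            linear_combination (norm := module) hcs
          by_cases hcs1 : cv = cs
          · rw [hcs1, sub_self, zero_smul, zero_add, smul_eq_zero, sub_eq_zero] at h0
            rw [hcv, hcs1, ← h0.resolve_right hw0, one_smul]
          · have hv' : v = (-(cv - cs)⁻¹ * (1 - cs)) • w := by
              have hne : cv - cs ≠ 0 := sub_ne_zero.2 hcs1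
              apply smul_right_injective V hne
              show (cv - cs) • v = (cv - cs) • _
              rw [smul_smul, ← mul_assoc, mul_neg, mul_inv_cancel₀ hne, eq_neg_of_add_eq_zero_left h0]
              module
            rw [hv', map_smul, hgw]
        have hgood := (C.negC_good_plane hG2 hu hne).sup C.negC hPG hGn (C.negC_gInv hGg)
          (C.negC_gInv hPg) hoGP
        refine C.com_of_negC_good (C.nondeg_sup hGn hPn hoGP) (C.gInv_sup hGg hPg) hgood
          fun k hk => ?_
        rw [C.finrank_sup_orth hGn hoGP] at hk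
        obtain rfl : k = 2 * e := by omega
        refine exists_regL_neg (by omega) ?_
        have : 3 ^ 1 ≤ 3 ^ (e - 1) := Nat.pow_le_pow_right (by omega) (by omega)
        rw [q3]
        omega
      have hor : C.Orth (G ⊔ P) B' := by
        intro u hu b hb
        obtain ⟨a, ha, p, hp, rfl⟩ := Submodule.mem_sup.1 hu
        simp [ho a ha b (Submodule.mem_sup_right hb), hoP p hp b hb]
      rw [← hGB, ← sup_assoc]
      exact hcom.sup C hB'c (C.nondeg_sup hGn hPn hoGP) hB'n hor
    · refine hGB ▸ (C.com_of_good hGn hGg hG fun k hk => exists_regL fun hk0 => ?_).sup C hBc hGn hBn ho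
      have : 3 ^ 1 ≤ 3 ^ (k - 1) := Nat.pow_le_pow_right (by omega) (by omega)
      rw [q3]
      omega
  · refine hGB ▸ (C.com_of_good hGn hGg hG fun k hk => exists_regL fun _ => ?_).sup C hBc hGn hBn ho
    have h3 : 1 * 3 ≤ Nat.card F ^ (k - 1) * (Nat.card F - 1) :=
      Nat.mul_le_mul (Nat.one_le_pow _ _ (by omega)) (by omega)
    omega

end Ctx

/-- The standard symplectic space with an isometry. -/
noncomputable def stdCtx {F : Type*} [Field F] {m : ℕ} (g : SpG (Fin m) F) :
    Ctx F (Fin m ⊕ Fin m → F) where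
  om := Matrix.toLinearMap₂' F (Matrix.J (Fin m) F)
  alt v := by
    simp [Matrix.toLinearMap₂'_apply', Matrix.J, dotProduct, Matrix.mulVec, Fintype.sum_sum_type,
      Matrix.one_apply, mul_comm]
  nd v h := by
    funext x
    rcases x with i | i
    · simpa [Matrix.toLinearMap₂'_apply', Matrix.J, dotProduct, Matrix.mulVec,
        Fintype.sum_sum_type, Matrix.one_apply, Pi.single_apply] using h (Pi.single (.inr i) 1)
    · simpa [Matrix.toLinearMap₂'_apply', Matrix.J, dotProduct, Matrix.mulVec,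
        Fintype.sum_sum_type, Matrix.one_apply, Pi.single_apply] using h (Pi.single (.inl i) 1)
  g :=
    { toFun := fun v => g.1.mulVec v
      invFun := fun v => (g⁻¹ : SpG (Fin m) F).1.mulVec v
      map_add' := fun u v => Matrix.mulVec_add _ _ _
      map_smul' := fun c v => Matrix.mulVec_smul _ _ _
      left_inv := fun v => by
        dsimp only
        rw [Matrix.mulVec_mulVec, ← Submonoid.coe_mul, inv_mul_cancel]
        exact Matrix.one_mulVec v
      right_inv := fun v => by
        dsimp only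
        rw [Matrix.mulVec_mulVec, ← Submonoid.coe_mul, mul_inv_cancel]
        exact Matrix.one_mulVec v }
  iso v w := by
    simp only [Matrix.toLinearMap₂'_apply', LinearEquiv.coe_mk, LinearMap.coe_mk, AddHom.coe_mk]
    exact SForm.symp_bilin g v w

theorem ore_sp {F : Type*} [Field F] [Fintype F] (m : ℕ) (hm : 1 ≤ m)
    (h1 : m = 1 → 4 ≤ Fintype.card F) (h2 : m = 2 → 3 ≤ Fintype.card F) (g : SpG (Fin m) F) :
    ∃ a b : SpG (Fin m) F, g = a * b * a⁻¹ * b⁻¹ := by
  obtain ⟨a, b, ha, hb, -, -, h⟩ := (stdCtx g).com_top m hm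
    (by rw [Module.finrank_pi, Fintype.card_sum, Fintype.card_fin]; omega) h1 h2
  have mem : ∀ c ∈ (stdCtx g).IsoGroup,
      LinearMap.toMatrix' c.toLinearMap ∈ Matrix.symplecticGroup (Fin m) F := by
    intro c hc
    refine SymplecticGroup.mem_iff'.2 (Matrix.ext_of_mulVec_single fun j => ?_)
    funext i
    have := hc (Pi.single i 1) (Pi.single j 1)
    simp only [stdCtx, Matrix.toLinearMap₂'_apply'] at this
    rw [← LinearEquiv.coe_coe, ← LinearMap.toMatrix'_mulVec, ← LinearMap.toMatrix'_mulVec] at this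
    rw [Matrix.mulVec_mulVec, ← Matrix.vecMul_transpose, ← Matrix.dotProduct_mulVec,
      Matrix.mulVec_mulVec, single_one_dotProduct, single_one_dotProduct, ← Matrix.mul_assoc] at this
    exact this
  refine ⟨⟨_, mem a ha⟩, ⟨_, mem b hb⟩, ?_⟩
  rw [eq_mul_inv_iff_mul_eq, eq_mul_inv_iff_mul_eq, mul_assoc]
  refine spG_ext (Matrix.ext_of_mulVec_single fun j => ?_)
  have e := h (b (a (Pi.single j 1))) trivial
  simp only [LinearEquiv.mul_apply] at e
  rw [show b⁻¹ (b (a (Pi.single j 1))) = a (Pi.single j 1) from b.symm_apply_apply _,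
    show a⁻¹ (a (Pi.single j 1)) = Pi.single j 1 from a.symm_apply_apply _] at e
  simp only [Submonoid.coe_mul, ← Matrix.mulVec_mulVec, LinearMap.toMatrix'_mulVec,
    LinearEquiv.coe_coe]
  exact e.symm

end Cfsg.Agent.Ore54
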