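import Cfsg.Agent.Ore54.Ctx

/-!
Pairs of isotropic subspaces in duality, and arithmetic in the primary component of an irreducible
polynomial.
-/

set_option autoImplicit false

namespace Cfsg.Agent.Ore54

open Module Polynomial

variable {F V : Type*} [Field F] [AddCommGroup V] [Module F V]

/-- A polynomial not divisible by `p ^ e` has a multiple congruent to `p ^ (e - 1)`. -/
theorem exists_mul_socle {p : F[X]} (hp : Irreducible p) :
    ∀ {e : ℕ} {c : F[X]}, 1 ≤ e → ¬ p ^ e ∣ c → ∃ k, p ^ e ∣ k * c - p ^ (e - 1)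
  | 0, _, h, _ => absurd h (by omega)
  | e + 1, c, _, hc => by
    by_cases hpc : p ∣ c
    · obtain ⟨c', rfl⟩ := hpc
      rcases Nat.eq_zero_or_pos e with rfl | he
      · exact absurd (by simp) hc
      obtain ⟨k, hk⟩ := exists_mul_socle hp he (c := c') fun h => hc (by
        rw [pow_succ']; exact mul_dvd_mul_left p h)
      refine ⟨k, ?_⟩
      obtain ⟨e', rfl⟩ : ∃ e', e = e' + 1 := ⟨e - 1, by omega⟩
      simp only [Nat.add_sub_cancel] at hk ⊢
      rw [show k * (p * c') - p ^ (e' + 1) = p * (k * c' - p ^ e') by ring, pow_succ' p (e' + 1)]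
      exact mul_dvd_mul_left p hk
    · obtain ⟨a, b, hab⟩ := ((hp.coprime_iff_not_dvd.2 hpc).pow_left (m := e + 1))
      refine ⟨p ^ e * b, -(a * p ^ e), ?_⟩
      simp only [Nat.add_sub_cancel]
      linear_combination (p ^ e) * hab

namespace Ctx

variable (C : Ctx F V)

theorem pl_zero (v : V) : C.pl 0 v = 0 := by simp [pl]

theorem pl_of_dvd {c d : F[X]} (h : c ∣ d) {v : V} (hv : C.pl c v = 0) : C.pl d v = 0 := by
  obtain ⟨k, rfl⟩ := h
  rw [mul_comm, pl_mul, hv, map_zero]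

theorem pl_congr {c d m : F[X]} (h : m ∣ c - d) {v : V} (hv : C.pl m v = 0) :
    C.pl c v = C.pl d v :=
  sub_eq_zero.1 (by rw [← pl_sub]; exact C.pl_of_dvd h hv)

theorem pow_dvd_of_pl_eq_zero {p : F[X]} (hp : Irreducible p) {e : ℕ} (he : 1 ≤ e) {c : F[X]}
    {x : V} (hx : C.pl (p ^ e) x = 0) (hx' : C.pl (p ^ (e - 1)) x ≠ 0) (hc : C.pl c x = 0) :
    p ^ e ∣ c := by
  by_contra h
  obtain ⟨k, hk⟩ := exists_mul_socle hp he h
  exact hx' (by rw [← C.pl_congr hk hx, C.pl_mul, hc, map_zero])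

theorem cyc_isot (x : V) : C.Isot (C.cyc x) := by
  rintro _ ⟨h, rfl⟩ _ ⟨k, rfl⟩
  rw [C.pl_adj h, ← C.pl_mul, C.pl_alt']

theorem orth_cyc {x b : V} (h : ∀ k, C.om (C.pl k x) b = 0) : C.Orth (C.cyc x) (C.cyc b) := by
  rintro _ ⟨k, rfl⟩ _ ⟨l, rfl⟩
  rw [← C.pl_adj l, ← C.pl_mul]
  exact h _

theorem isot_sup {A B : Submodule F V} (hA : C.Isot A) (hB : C.Isot B) (h : C.Orth A B) :
    C.Isot (A ⊔ B) := by
  intro u hu v hv
  obtain ⟨a, ha, b, hb, rfl⟩ := Submodule.mem_sup.1 hu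
  obtain ⟨a', ha', b', hb', rfl⟩ := Submodule.mem_sup.1 hv
  simp [hA a ha a' ha', hB b hb b' hb', h a ha b' hb', C.eq_zero_comm (h a' ha' b hb)]

theorem T_mem_cyc {x v : V} (hv : v ∈ C.cyc x) : C.T v ∈ C.cyc x := by
  rw [← C.pl_X]; exact C.pl_mem_cyc _ hv

theorem T_mem_cyc_sup {x b v : V} (hv : v ∈ C.cyc x ⊔ C.cyc b) : C.T v ∈ C.cyc x ⊔ C.cyc b := by
  obtain ⟨a, ha, b', hb, rfl⟩ := Submodule.mem_sup.1 hv
  rw [map_add]
  exact Submodule.add_mem_sup (C.T_mem_cyc ha) (C.T_mem_cyc hb)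

theorem mem_cyc_sup {x b v : V} (hv : v ∈ C.cyc x ⊔ C.cyc b) :
    ∃ c d : F[X], v = C.pl c x + C.pl d b := by
  obtain ⟨_, ⟨c, rfl⟩, _, ⟨d, rfl⟩, rfl⟩ := Submodule.mem_sup.1 hv
  exact ⟨c, d, rfl⟩

theorem finrank_le_of_pairing [FiniteDimensional F V] {W W' : Submodule F V}
    (h : ∀ u ∈ W, (∀ v ∈ W', C.om u v = 0) → u = 0) : finrank F W ≤ finrank F W' := by
  let f : W →ₗ[F] Dual F W' := (C.toDual W').comp W.subtype
  have hf : Function.Injective f := by
    rw [← LinearMap.ker_eq_bot, LinearMap.ker_eq_bot']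
    exact fun u hu => Subtype.ext (h u u.2 fun v hv =>
      C.eq_zero_comm (LinearMap.congr_fun hu ⟨v, hv⟩))
  exact (LinearMap.finrank_le_finrank_of_injective hf).trans_eq Subspace.dual_finrank_eq

/-- Two isotropic subspaces in duality span a nondegenerate subspace. -/
theorem lagPair [FiniteDimensional F V] {W W' : Submodule F V} (hW : C.Isot W) (hW' : C.Isot W')
    (h : ∀ u ∈ W, (∀ v ∈ W', C.om u v = 0) → u = 0)
    (h' : ∀ u ∈ W', (∀ v ∈ W, C.om u v = 0) → u = 0) :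
    C.Nondeg (W ⊔ W') ∧ finrank F ↥(W ⊔ W') = 2 * finrank F W := by
  refine ⟨?_, ?_⟩
  · intro v hv hall
    obtain ⟨a, ha, b, hb, rfl⟩ := Submodule.mem_sup.1 hv
    have ha0 : a = 0 := h a ha fun w hw => by
      simpa [hW' b hb w hw] using hall w (Submodule.mem_sup_right hw)
    have hb0 : b = 0 := h' b hb fun w hw => by
      simpa [hW a ha w hw] using hall w (Submodule.mem_sup_left hw)
    simp [ha0, hb0]
  · have hd : W ⊓ W' = ⊥ := by
      rw [eq_bot_iff]
      rintro v ⟨hv, hv'⟩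
      exact h v hv fun w hw => hW' v hv' w hw
    have := Submodule.finrank_sup_add_finrank_inf_eq W W'
    rw [hd, finrank_bot, add_zero] at this
    have := C.finrank_le_of_pairing h
    have := C.finrank_le_of_pairing h'
    omega

/-- A `T`-invariant isotropic subspace paired nondegenerately with its image gives a good
piece. -/
theorem good_piece [FiniteDimensional F V] {W : Submodule F V} (hT : ∀ u ∈ W, C.T u ∈ W)
    (hW : C.Isot W) (h : ∀ u ∈ W, (∀ v ∈ W, C.om u (C.g v) = 0) → u = 0) :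
    let P := W ⊔ W.map C.g.toLinearMap
    C.GInv P ∧ C.Nondeg P ∧ C.Good P := by
  intro P
  have h1 : ∀ u ∈ W, (∀ v ∈ W.map C.g.toLinearMap, C.om u v = 0) → u = 0 := fun u hu hv =>
    h u hu fun v hv' => hv _ (Submodule.mem_map_of_mem (f := C.g.toLinearMap) hv')
  have h2 : ∀ u ∈ W.map C.g.toLinearMap, (∀ v ∈ W, C.om u v = 0) → u = 0 := by
    rintro _ ⟨u, hu, rfl⟩ hv
    suffices u = 0 by simp [this]
    refine h u hu fun v hv' => ?_
    have e : C.om (C.g u) v + C.om u (C.g v) = C.om (C.T u) v := by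
      rw [T_apply, map_add, LinearMap.add_apply, C.om_symm_left]
    rw [show C.om (C.g u) v = 0 from hv v hv', zero_add, hW _ (hT u hu) v hv'] at e
    exact e
  have hWm : C.Isot (W.map C.g.toLinearMap) := by
    rintro _ ⟨u, hu, rfl⟩ _ ⟨v, hv, rfl⟩
    exact (C.iso u v).trans (hW u hu v hv)
  obtain ⟨hn, hd⟩ := C.lagPair hW hWm h1 h2
  refine ⟨?_, hn, W, le_sup_left, hW, hd.symm, fun u hu v hv => hW _ (hT u hu) v hv, ?_⟩
  · intro v hv
    obtain ⟨a, ha, _, ⟨b, hb, rfl⟩, rfl⟩ := Submodule.mem_sup.1 hv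
    rw [map_add]
    refine P.add_mem (Submodule.mem_sup_right (Submodule.mem_map_of_mem (f := C.g.toLinearMap) ha)) ?_
    show C.g (C.g b) ∈ P
    rw [C.g_g, ← C.g_T]
    exact P.sub_mem (Submodule.mem_sup_right (Submodule.mem_map_of_mem (f := C.g.toLinearMap) (hT b hb)))
      (Submodule.mem_sup_left hb)
  · intro u hu hgu
    have : u = 0 := h u hu fun v hv => by
      rw [← C.om_symm_left, C.symm_eq]
      exact hW _ (W.sub_mem (hT u hu) hgu) v hv
    simp [this]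

end Ctx

end Cfsg.Agent.Ore54
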