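import Cfsg.Agent.Ore54.Pieces

/-!
A pair `x, y` of maximal level in the unipotent component, with `g` acting trivially on the socle,
spans a good piece.
-/

set_option autoImplicit false

namespace Cfsg.Agent.Ore54

open Module Polynomial

variable {F V : Type*} [Field F] [AddCommGroup V] [Module F V]

/-- `X - 2`. -/
noncomputable def dPol : F[X] := Polynomial.X - Polynomial.C 2

theorem dPol_irr : Irreducible (dPol : F[X]) := irreducible_X_sub_C 2

theorem dPol_dvd_iff {c : F[X]} : (dPol : F[X]) ∣ c ↔ c.eval 2 = 0 := dvd_iff_isRoot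

namespace Ctx

variable (C : Ctx F V)

theorem pl_eq_eval {c : F[X]} {v : V} (hv : C.pl dPol v = 0) : C.pl c v = c.eval 2 • v := by
  rw [C.pl_congr (d := Polynomial.C (c.eval 2)) (dPol_dvd_iff.2 (by simp)) hv, pl_C]

/-- `g - 1`. -/
def N : Module.End F V := C.g.toLinearMap - LinearMap.id

theorem N_apply (v : V) : C.N v = C.g v - v := rfl

theorem N_pl (h : F[X]) (v : V) : C.N (C.pl h v) = C.pl h (C.N v) := by
  simp [N_apply, g_pl]

theorem pl_dPol (v : V) : C.pl dPol v = C.T v - (2 : F) • v := by simp [dPol, pl_sub]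

theorem N_N (v : V) : C.N (C.N v) = C.pl dPol (C.g v) := by
  rw [pl_dPol, N_apply, N_apply, map_sub, g_g, two_smul]
  abel

theorem om_N_N (u v : V) : C.om (C.N u) (C.N v) = -C.om (C.pl dPol u) v := by
  simp only [N_apply, pl_dPol, T_apply, map_sub, map_add, LinearMap.sub_apply, LinearMap.add_apply,
    map_smul, LinearMap.smul_apply, C.iso, om_symm_left, smul_eq_mul]
  ring

variable {e : ℕ} {x y : V}

/-- What the two generators are assumed to satisfy. -/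
structure UPair (e : ℕ) (x y : V) : Prop where
  he : 1 ≤ e
  hx : C.pl (dPol ^ e) x = 0
  hy : C.pl (dPol ^ e) y = 0
  hNx : C.pl (dPol ^ (e - 1)) (C.N x) = 0
  hNy : C.pl (dPol ^ (e - 1)) (C.N y) = 0
  hxy : C.om (C.pl (dPol ^ (e - 1)) x) y = 1

variable {C}

theorem UPair.symm (h : C.UPair e x y) : C.UPair e y (-x) :=
  ⟨h.he, h.hy, by simp [h.hx], h.hNy, by simp [h.hNx], by
    rw [map_neg, pl_adj, ← C.skew]; exact h.hxy⟩

theorem UPair.hx' (h : C.UPair e x y) : C.pl (dPol ^ (e - 1)) x ≠ 0 := fun h0 => by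
  have := h.hxy; rw [h0] at this; simp at this

theorem UPair.hy' (h : C.UPair e x y) : C.pl (dPol ^ (e - 1)) y ≠ 0 := h.symm.hx'

theorem UPair.sep (h : C.UPair e x y) {v : V} (hv : v ∈ C.cyc x)
    (h0 : ∀ w ∈ C.cyc y, C.om v w = 0) : v = 0 := by
  obtain ⟨c, rfl⟩ := hv
  by_contra hne
  have hc : ¬ dPol ^ e ∣ c := fun hd => hne (C.pl_of_dvd hd h.hx)
  obtain ⟨k, hk⟩ := exists_mul_socle dPol_irr h.he hc
  have := h0 (C.pl k y) ⟨k, rfl⟩
  rw [← pl_adj, ← pl_mul, C.pl_congr hk h.hx, h.hxy] at this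
  exact one_ne_zero this

/-- The correction making `N y` perpendicular to the `T`-cyclic subspace of `x`. -/
theorem UPair.exists_corr [FiniteDimensional F V] (h : C.UPair e x y) :
    ∃ s : F[X], ∀ k, C.om (C.pl k x) (C.N y - C.pl (dPol * s) y) = 0 := by
  let f : C.cyc y →ₗ[F] Dual F (C.cyc x) := (C.toDual (C.cyc x)).comp (C.cyc y).subtype
  have hle1 : finrank F (C.cyc x) ≤ finrank F (C.cyc y) :=
    C.finrank_le_of_pairing fun u hu => h.sep hu
  have hs : ∀ u ∈ C.cyc y, (∀ v ∈ C.cyc x, C.om u v = 0) → u = 0 := fun u hu hall =>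
    h.symm.sep hu fun v hv => by
      obtain ⟨k, rfl⟩ := hv
      simpa using hall _ ⟨k, rfl⟩
  have hle2 : finrank F (C.cyc y) ≤ finrank F (C.cyc x) := C.finrank_le_of_pairing hs
  have hinj : Function.Injective f := by
    rw [← LinearMap.ker_eq_bot, LinearMap.ker_eq_bot']
    exact fun u hu => Subtype.ext (hs u u.2 fun v hv =>
      C.eq_zero_comm (LinearMap.congr_fun hu ⟨v, hv⟩))
  obtain ⟨⟨_, r, rfl⟩, hr⟩ := (LinearMap.injective_iff_surjective_of_finrank_eq_finrank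
    ((le_antisymm hle2 hle1).trans Subspace.dual_finrank_eq.symm)).1 hinj
    (C.toDual (C.cyc x) (C.N y))
  have hr' : ∀ k, C.om (C.pl k x) (C.pl r y) = C.om (C.pl k x) (C.N y) :=
    fun k => LinearMap.congr_fun hr ⟨_, k, rfl⟩
  have hd : C.pl dPol (C.pl (dPol ^ (e - 1)) x) = 0 := by
    rw [← pl_mul, ← pow_succ', Nat.sub_add_cancel h.he, h.hx]
  have h0 := hr' (dPol ^ (e - 1))
  rw [← C.pl_adj r, C.pl_eq_eval hd, map_smul, LinearMap.smul_apply, h.hxy,
    C.pl_adj (dPol ^ (e - 1)) x (C.N y), h.hNy, map_zero] at h0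
  have h1 : r.eval 2 = 0 := by simpa using h0
  obtain ⟨s, rfl⟩ := dPol_dvd_iff.2 h1
  exact ⟨s, fun k => by rw [map_sub, hr', sub_self]⟩

/-- The data `x, y, b, a`. -/
structure UQuad (C : Ctx F V) (e : ℕ) (x y b a : V) : Prop where
  he : 1 ≤ e
  hx : C.pl (dPol ^ e) x = 0
  hy : C.pl (dPol ^ e) y = 0
  hb : C.pl (dPol ^ (e - 1)) b = 0
  ha : C.pl (dPol ^ (e - 1)) a = 0
  hxb : ∀ k, C.om (C.pl k x) b = 0
  hya : ∀ k, C.om (C.pl k y) a = 0
  hxy : C.om (C.pl (dPol ^ (e - 1)) x) y ≠ 0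
  hba : 2 ≤ e → C.om (C.pl (dPol ^ (e - 2)) b) a ≠ 0

theorem UQuad.symm {b a : V} (h : UQuad C e x y b a) : UQuad C e y x a b :=
  ⟨h.he, h.hy, h.hx, h.ha, h.hb, h.hya, h.hxb,
    fun h0 => h.hxy (by rw [pl_adj]; exact C.eq_zero_comm h0),
    fun h2 h0 => h.hba h2 (by rw [pl_adj]; exact C.eq_zero_comm h0)⟩

/-- Triangularity of the pairing. -/
theorem UQuad.indep {b a : V} (h : UQuad C e x y b a) {c d : F[X]}
    (h1 : ∀ k, C.om (C.pl c x + C.pl d b) (C.pl k y) = 0)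
    (h2 : ∀ k, C.om (C.pl c x + C.pl d b) (C.pl k a) = 0) :
    dPol ^ e ∣ c ∧ dPol ^ (e - 1) ∣ d := by
  have key : ∀ j ≤ e, dPol ^ j ∣ c ∧ (j ≤ e - 1 → dPol ^ j ∣ d) := by
    intro j
    induction j with
    | zero => intro _; simp
    | succ j ih =>
      intro hj
      obtain ⟨⟨c₁, rfl⟩, hd⟩ := ih (by omega)
      obtain ⟨d₁, rfl⟩ := hd (by omega)
      have test : ∀ i w, j + i ≤ e → (∀ k, C.om (C.pl (dPol ^ j * c₁) x + C.pl (dPol ^ j * d₁) b)
          (C.pl k w) = 0) →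
          C.om (C.pl c₁ (C.pl (dPol ^ (j + i)) x)) w +
            C.om (C.pl d₁ (C.pl (dPol ^ (j + i)) b)) w = 0 := by
        intro i w _ hw
        have := hw (dPol ^ i)
        rw [← pl_adj, map_add, map_add, LinearMap.add_apply, ← pl_mul, ← pl_mul,
          show dPol ^ i * (dPol ^ j * c₁) = c₁ * dPol ^ (j + i) by ring,
          show dPol ^ i * (dPol ^ j * d₁) = d₁ * dPol ^ (j + i) by ring, pl_mul, pl_mul] at this
        exact this
      have hc₁ : c₁.eval 2 = 0 := by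
        have t := test (e - 1 - j) y (by omega) h1
        rw [show j + (e - 1 - j) = e - 1 by omega, h.hb, map_zero,
          C.pl_eq_eval (by rw [← pl_mul, ← pow_succ', Nat.sub_add_cancel h.he, h.hx])] at t
        simpa [h.hxy] using t
      refine ⟨?_, fun hj' => ?_⟩
      · rw [pow_succ]; exact mul_dvd_mul_left _ (dPol_dvd_iff.2 hc₁)
      · have t := test (e - 2 - j) a (by omega) h2
        obtain ⟨c₂, rfl⟩ := dPol_dvd_iff.2 hc₁
        rw [show j + (e - 2 - j) = e - 2 by omega, C.pl_eq_eval (v := C.pl _ b) (c := d₁) (by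
            rw [← pl_mul, ← pow_succ', show e - 2 + 1 = e - 1 by omega, h.hb]),
          mul_comm dPol c₂, pl_mul, ← pl_mul _ dPol, ← pow_succ',
          show e - 2 + 1 = e - 1 by omega, ← pl_mul, mul_comm c₂, pl_mul, pl_adj, h.ha] at t
        rw [pow_succ]
        refine mul_dvd_mul_left _ (dPol_dvd_iff.2 ?_)
        simpa [h.hba (by omega)] using t
  exact ⟨(key e le_rfl).1, (key (e - 1) (by omega)).2 le_rfl⟩

theorem UQuad.sep {b a : V} (h : UQuad C e x y b a) {u : V} (hu : u ∈ C.cyc x ⊔ C.cyc b)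
    (h0 : ∀ v ∈ C.cyc y ⊔ C.cyc a, C.om u v = 0) : u = 0 := by
  obtain ⟨c, d, rfl⟩ := C.mem_cyc_sup hu
  obtain ⟨hc, hd⟩ := h.indep (fun k => h0 _ (Submodule.mem_sup_left ⟨k, rfl⟩))
    (fun k => h0 _ (Submodule.mem_sup_right ⟨k, rfl⟩))
  rw [C.pl_of_dvd hc h.hx, C.pl_of_dvd hd h.hb, add_zero]

/-- The piece spanned by `x` and `y`. -/
theorem UPair.piece [FiniteDimensional F V] (h : C.UPair e x y) :
    ∃ P : Submodule F V, C.GInv P ∧ C.Nondeg P ∧ C.Good P ∧ x ∈ P ∧ y ∈ P ∧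
      ∀ U : Submodule F V, C.GInv U → x ∈ U → y ∈ U → P ≤ U := by
  obtain ⟨s, hs⟩ := h.exists_corr
  obtain ⟨s', hs'⟩ := h.symm.exists_corr
  set b := C.N y - C.pl (dPol * s) y with hbdef
  set a := C.N (-x) - C.pl (dPol * s') (-x) with hadef
  have hpow : dPol ^ (e - 1) * dPol = (dPol : F[X]) ^ e := by
    rw [← pow_succ, Nat.sub_add_cancel h.he]
  have hb : C.pl (dPol ^ (e - 1)) b = 0 := by
    rw [hbdef, map_sub, h.hNy, ← pl_mul, ← mul_assoc, hpow, mul_comm, pl_mul, h.hy, map_zero,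
      sub_zero]
  have ha : C.pl (dPol ^ (e - 1)) a = 0 := by
    rw [hadef, map_sub, h.symm.hNy, ← pl_mul, ← mul_assoc, hpow, mul_comm, pl_mul, h.symm.hy,
      map_zero, sub_zero]
  have hba : 2 ≤ e → C.om (C.pl (dPol ^ (e - 2)) b) a ≠ 0 := by
    intro he2
    have hp2 : dPol ^ (e - 2) * dPol = (dPol : F[X]) ^ (e - 1) := by
      rw [← pow_succ, show e - 2 + 1 = e - 1 by omega]
    have e1 : C.om (C.pl (dPol ^ (e - 2)) b) a = C.om (C.pl (dPol ^ (e - 2)) (C.N y)) (C.N (-x)) := by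
      have q1 : C.om (C.pl (dPol ^ (e - 2)) (C.pl (dPol * s) y)) a = 0 := by
        rw [← pl_mul, ← mul_assoc, hp2, mul_comm, pl_mul, pl_adj, pl_adj (C := C) (dPol ^ (e - 1)),
          pl_comm, ha, map_zero, map_zero]
      have q2 : C.om (C.pl (dPol ^ (e - 2)) (C.N y)) (C.pl (dPol * s') (-x)) = 0 := by
        rw [← pl_adj, ← pl_mul, show dPol * s' * dPol ^ (e - 2) = s' * (dPol ^ (e - 2) * dPol) by
          ring, hp2, pl_mul, h.hNy]
        simp
      rw [show C.pl (dPol ^ (e - 2)) b = C.pl (dPol ^ (e - 2)) (C.N y) -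
        C.pl (dPol ^ (e - 2)) (C.pl (dPol * s) y) from map_sub _ _ _, LinearMap.map_sub₂,
        q1, sub_zero]
      rw [show a = C.N (-x) - C.pl (dPol * s') (-x) from hadef, map_sub, q2, sub_zero]
    rw [e1, ← N_pl, om_N_N, ← pl_mul, mul_comm, hp2, h.symm.hxy]
    simp
  have hquad : UQuad C e x y b a := ⟨h.he, h.hx, h.hy, hb, ha, hs, fun k => hs' k,
    by rw [h.hxy]; exact one_ne_zero, hba⟩
  let W₁ := C.cyc x ⊔ C.cyc b
  let W₂ := C.cyc y ⊔ C.cyc a
  have hW₁ : C.Isot W₁ := C.isot_sup (C.cyc_isot x) (C.cyc_isot b) (C.orth_cyc hs)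
  have hW₂ : C.Isot W₂ := C.isot_sup (C.cyc_isot y) (C.cyc_isot a) (C.orth_cyc hquad.hya)
  obtain ⟨hn, hd⟩ := C.lagPair hW₁ hW₂ (fun u hu => hquad.sep hu) (fun u hu => hquad.symm.sep hu)
  let P := W₁ ⊔ W₂
  have mx : x ∈ P := Submodule.mem_sup_left (Submodule.mem_sup_left (C.self_mem_cyc x))
  have my : y ∈ P := Submodule.mem_sup_right (Submodule.mem_sup_left (C.self_mem_cyc y))
  have hpl : ∀ (k : F[X]) {v : V}, v ∈ P → C.pl k v ∈ P := by
    intro k v hv
    obtain ⟨u, hu, w, hw, rfl⟩ := Submodule.mem_sup.1 hv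
    obtain ⟨c, d, rfl⟩ := C.mem_cyc_sup hu
    obtain ⟨c', d', rfl⟩ := C.mem_cyc_sup hw
    simp only [map_add, ← pl_mul]
    exact Submodule.add_mem_sup (Submodule.add_mem_sup ⟨_, rfl⟩ ⟨_, rfl⟩)
      (Submodule.add_mem_sup ⟨_, rfl⟩ ⟨_, rfl⟩)
  have mNy : C.N y ∈ P := by
    rw [show C.N y = b + C.pl (dPol * s) y by rw [hbdef]; abel]
    exact P.add_mem (Submodule.mem_sup_left (Submodule.mem_sup_right (C.self_mem_cyc b))) (hpl _ my)
  have mNx : C.N x ∈ P := by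
    rw [show C.N x = C.pl (dPol * s') x - a by rw [hadef, map_neg, map_neg]; abel]
    exact P.sub_mem (hpl _ mx) (Submodule.mem_sup_right (Submodule.mem_sup_right (C.self_mem_cyc a)))
  have mgx : C.g x ∈ P := by simpa [N_apply] using P.add_mem mNx mx
  have mgy : C.g y ∈ P := by simpa [N_apply] using P.add_mem mNy my
  have mg2 : ∀ {v : V}, v ∈ P → C.g v ∈ P → C.g (C.g v) ∈ P := fun {v} h1 h2 => by
    rw [g_g, ← pl_X]; exact P.sub_mem (hpl _ h2) h1
  have mgb : C.g b ∈ P := by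
    rw [hbdef, map_sub, N_apply, map_sub, g_pl]
    exact P.sub_mem (P.sub_mem (mg2 my mgy) mgy) (hpl _ mgy)
  have mga : C.g a ∈ P := by
    rw [hadef, map_sub, N_apply, map_sub, g_pl, map_neg, map_neg]
    exact P.sub_mem (P.sub_mem (P.neg_mem (mg2 mx mgx)) (P.neg_mem mgx)) (hpl _ (P.neg_mem mgx))
  have hg : C.GInv P := by
    intro v hv
    obtain ⟨u, hu, w, hw, rfl⟩ := Submodule.mem_sup.1 hv
    obtain ⟨c, d, rfl⟩ := C.mem_cyc_sup hu
    obtain ⟨c', d', rfl⟩ := C.mem_cyc_sup hw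
    simp only [map_add, g_pl]
    exact P.add_mem (P.add_mem (hpl _ mgx) (hpl _ mgb)) (P.add_mem (hpl _ mgy) (hpl _ mga))
  refine ⟨P, hg, hn, ⟨W₁, le_sup_left, hW₁, hd.symm,
    fun u hu v hv => hW₁ _ (C.T_mem_cyc_sup hu) v hv, ?_⟩, mx, my, ?_⟩
  · intro u hu hgu
    have step : ∀ v, v ∈ W₁ → C.g v ∈ W₁ → C.N v ∈ W₁ ∧ C.g (C.N v) ∈ W₁ := fun v h1 h2 => by
      refine ⟨W₁.sub_mem h2 h1, ?_⟩
      rw [N_apply, map_sub, g_g]
      exact W₁.sub_mem (W₁.sub_mem (C.T_mem_cyc_sup h2) h1) h2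
    by_contra hne
    have hNu : C.N u ≠ 0 := fun h0 => hne (sub_eq_zero.1 h0)
    -- `N` is nilpotent on `W₁`
    have hke : ∀ v ∈ W₁, C.pl (dPol ^ e) v = 0 := by
      intro v hv
      obtain ⟨c, d, rfl⟩ := C.mem_cyc_sup hv
      rw [map_add, pl_comm, h.hx, pl_comm _ (dPol ^ e), ← hpow, mul_comm, pl_mul _ dPol, hb]
      simp
    have hnil : ∀ j, ∀ v, C.pl (dPol ^ j) v = 0 → (C.N ^ (2 * j)) v = 0 := by
      intro j
      induction j with
      | zero => intro v hv; simpa using hv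
      | succ j ih =>
        intro v hv
        rw [show 2 * (j + 1) = 2 * j + 2 by ring, pow_add, Module.End.mul_apply, pow_two,
          Module.End.mul_apply, N_N]
        refine ih _ ?_
        rw [← pl_mul, ← pow_succ, ← g_pl, hv, map_zero]
    classical
    have hex : ∃ m, (C.N ^ (m + 1)) u = 0 := ⟨2 * e, by
      rw [pow_succ', Module.End.mul_apply, hnil e u (hke u hu), map_zero]⟩
    have hm : Nat.find hex ≠ 0 := fun h0 => hNu (by simpa [h0] using Nat.find_spec hex)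
    obtain ⟨m, hm'⟩ : ∃ m, Nat.find hex = m + 1 := ⟨_, (Nat.succ_pred_eq_of_ne_zero hm).symm⟩
    have hz : (C.N ^ (m + 1 + 1)) u = 0 := hm' ▸ Nat.find_spec hex
    have hnz : (C.N ^ (m + 1)) u ≠ 0 := Nat.find_min hex (by omega : m < Nat.find hex)
    have hmem : ∀ j, (C.N ^ j) u ∈ W₁ ∧ C.g ((C.N ^ j) u) ∈ W₁ := by
      intro j
      induction j with
      | zero => exact ⟨hu, hgu⟩
      | succ j ih => rw [pow_succ', Module.End.mul_apply]; exact step _ ih.1 ih.2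
    rw [pow_succ', Module.End.mul_apply, pow_succ', Module.End.mul_apply, N_N, ← g_pl,
      LinearEquiv.map_eq_zero_iff] at hz
    rw [pow_succ', Module.End.mul_apply] at hnz
    obtain ⟨hv, hgv⟩ := hmem m
    generalize (C.N ^ m) u = v at hz hnz hv hgv
    have hNv : C.N v ∈ W₁ := (step v hv hgv).1
    obtain ⟨c, d, rfl⟩ := C.mem_cyc_sup hv
    rw [map_add, ← pl_mul, ← pl_mul] at hz
    obtain ⟨hc, hd'⟩ := hquad.indep (c := dPol * c) (d := dPol * d) (fun k => by rw [hz]; simp)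
      (fun k => by rw [hz]; simp)
    rw [← hpow, mul_comm dPol] at hc
    obtain ⟨c₀, rfl⟩ := (mul_dvd_mul_iff_right dPol_irr.ne_zero).1 hc
    have hdx : C.pl dPol (C.pl (dPol ^ (e - 1)) x) = 0 := by
      rw [← pl_mul, mul_comm, hpow, h.hx]
    have hN0 : C.N (C.pl (dPol ^ (e - 1) * c₀) x) = 0 := by
      rw [N_pl, mul_comm, pl_mul, h.hNx, map_zero]
    rcases Nat.lt_or_ge e 2 with he2 | he2
    · have : b = 0 := by simpa [show e - 1 = 0 by omega] using hb
      apply hnz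
      rw [map_add, hN0, this, map_zero, map_zero, add_zero]
    have hp2 : dPol ^ (e - 2) * dPol = (dPol : F[X]) ^ (e - 1) := by
      rw [← pow_succ, show e - 2 + 1 = e - 1 by omega]
    rw [← hp2, mul_comm dPol] at hd'
    obtain ⟨d₀, rfl⟩ := (mul_dvd_mul_iff_right dPol_irr.ne_zero).1 hd'
    have hNb : C.pl (dPol ^ (e - 2)) (C.N b) = C.pl (dPol ^ (e - 1)) y := by
      rw [hbdef, map_sub C.N, N_N, N_pl, map_sub, ← pl_mul, hp2, ← pl_mul, ← mul_assoc, hp2,
        mul_comm, pl_mul, h.hNy, map_zero, sub_zero]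
      have := h.hNy
      rw [N_apply, map_sub, sub_eq_zero] at this
      exact this
    have hval : C.N (C.pl (dPol ^ (e - 1) * c₀) x + C.pl (dPol ^ (e - 2) * d₀) b) =
        d₀.eval 2 • C.pl (dPol ^ (e - 1)) y := by
      rw [map_add, hN0, zero_add, N_pl, mul_comm, pl_mul, hNb, C.pl_eq_eval]
      rw [← pl_mul, ← pow_succ', Nat.sub_add_cancel h.he, h.hy]
    rw [hval] at hnz hNv
    have := hW₁ x (Submodule.mem_sup_left (C.self_mem_cyc x)) _ hNv
    rw [map_smul, ← pl_adj, h.hxy, smul_eq_mul, mul_one] at this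
    exact hnz (by rw [this, zero_smul])
  · intro U hU hxU hyU
    have hNU : ∀ {v : V}, v ∈ U → C.N v ∈ U := fun hv => U.sub_mem (hU _ hv) hv
    have hcyc : ∀ {v : V}, v ∈ U → C.cyc v ≤ U := fun hv => by
      rintro _ ⟨k, rfl⟩; exact C.pl_mem hU k hv
    exact sup_le
      (sup_le (hcyc hxU) (hcyc (U.sub_mem (hNU hyU) (C.pl_mem hU _ hyU))))
      (sup_le (hcyc hyU) (hcyc (U.sub_mem (hNU (U.neg_mem hxU)) (C.pl_mem hU _ (U.neg_mem hxU)))))

end Ctx

end Cfsg.Agent.Ore54
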